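import Mathlib
import Cfsg.Agent.H363.AltPrimes

/-!
# Reduction to a simple section (helper357)

`G` a finite group, `|G|` divides `n!`, the odd part of `|G|` is the odd part of `n!`, and primes `r ≠ t` with
`r + t > n` are not adjacent: there is a normal subgroup `N` such that `G / N` has a simple nonabelian normal
subgroup `M` with trivial centralizer, containing all primes of `(n/2, n]`.
-/

set_option autoImplicit false

namespace Cfsg.Agent.H357.Reduce

open Subgroup Cfsg.Agent.H363.Frat Cfsg.Agent.H363.AltPrimes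

/-- `p` and `s` both greater than `n/2` and at most `n`: `p` does not divide `s - 1`. -/
theorem not_dvd_sub_one {n p s : ℕ} (hn : 11 ≤ n) (hp : p.Prime) (hs : s.Prime)
    (hnp : n < 2 * p) (hsn : s ≤ n) : ¬ p ∣ s - 1 := by
  rintro ⟨c, hc⟩
  have hs2 := hs.two_le
  have hc1 : c < 2 := by
    by_contra h
    have : p * 2 ≤ p * c := Nat.mul_le_mul_left p (by omega)
    omega
  have hc0 : c ≠ 0 := by
    rintro rfl
    omega
  have hc2 : c = 1 := by omega
  subst hc2
  rcases hp.eq_two_or_odd' with h | ⟨k, hk⟩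
  · omega
  · rcases hs.eq_two_or_odd' with h | ⟨l, hl⟩
    · omega
    · omega

/-- the data of the reduction -/
structure Data (G : Type*) [Group G] (n : ℕ) (N : Subgroup G) [N.Normal] (M : Subgroup (G ⧸ N)) : Prop where
  normal : M.Normal
  simple : IsSimpleGroup M
  nonab : ¬ ∀ a b : M, a * b = b * a
  cent : centralizer (M : Set (G ⧸ N)) = ⊥
  primes : ∀ p : ℕ, p.Prime → n < 2 * p → p ≤ n → p ∣ Nat.card M

/-- the hypotheses on `G` -/
structure Hyp (G : Type*) [Group G] (n : ℕ) : Prop where
  dvd : Nat.card G ∣ n.factorial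
  odd : ∀ p : ℕ, p.Prime → p ≠ 2 → (Nat.card G).factorization p = n.factorial.factorization p
  adj : ∀ r t : ℕ, r.Prime → t.Prime → r ≠ t → n < r + t → NonAdj G r t

theorem card_eq {G : Type*} [Group G] (N : Subgroup G) [N.Normal] (M : Subgroup (G ⧸ N)) :
    Nat.card G = Nat.card N * (Nat.card M * M.index) := by
  rw [M.card_mul_index, ← Subgroup.index_eq_card, N.card_mul_index]

theorem exists_data {G : Type*} [Group G] [Finite G] {n : ℕ} (hn : 11 ≤ n) (h : Hyp G n) :
    ∃ (N : Subgroup G) (_ : N.Normal) (M : Subgroup (G ⧸ N)), Data G n N M := by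
  obtain ⟨p, s, hp, hs, hnp, hps, hsn⟩ := Cfsg.Agent.H363.TwoPrimes.exists_two_primes' n hn
  -- the primes in `(n/2, n]` divide `|G|` exactly once
  have hfac : ∀ r : ℕ, r.Prime → n < 2 * r → r ≤ n → (Nat.card G).factorization r = 1 := by
    intro r hr h1 h2
    rw [h.odd r hr (by omega)]
    exact factorization_factorial hr h2 h1
  have hadj : ∀ r t : ℕ, r.Prime → t.Prime → r ≠ t → n < 2 * r → n < 2 * t → NonAdj G r t := by
    intro r t hr ht hrt h1 h2
    exact h.adj r t hr ht hrt (by omega)
  have hpG : p ∣ Nat.card G := by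
    rw [hp.dvd_iff_one_le_factorization Nat.card_pos.ne', hfac p hp hnp (by omega)]
  -- a maximal normal `p'`-subgroup
  obtain ⟨N, ⟨hNn, hNp⟩, hNmax⟩ : ∃ N : Subgroup G, (N.Normal ∧ ¬ p ∣ Nat.card N) ∧
      ∀ L : Subgroup G, (L.Normal ∧ ¬ p ∣ Nat.card L) → N ≤ L → L = N := by
    have hfin : {L : Subgroup G | L.Normal ∧ ¬ p ∣ Nat.card L}.Finite := Set.toFinite _
    obtain ⟨N, hN⟩ := hfin.exists_maximal ⟨⊥, Subgroup.normal_bot, by
      rw [Subgroup.card_bot]; exact fun h => hp.one_lt.ne' (Nat.dvd_one.mp h)⟩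
    exact ⟨N, hN.1, fun L hL hNL => le_antisymm (hN.2 hL hNL) hNL⟩
  have hpidx : p ∣ N.index := by
    have h1 := N.card_mul_index
    rw [← h1] at hpG
    rcases hp.dvd_mul.mp hpG with h | h
    · exact absurd h hNp
    · exact h
  -- a normal subgroup of `G / N` which is not trivial has order divisible by `p`
  have hquot : ∀ M : Subgroup (G ⧸ N), M.Normal → M ≠ ⊥ → p ∣ Nat.card M := by
    intro M hMn hM0
    have hHn : (M.comap (QuotientGroup.mk' N)).Normal := hMn.comap _
    have hNH : N ≤ M.comap (QuotientGroup.mk' N) := by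
      intro x hx
      rw [mem_comap]
      have : QuotientGroup.mk' N x = 1 := (QuotientGroup.eq_one_iff x).mpr hx
      rw [this]
      exact one_mem _
    have hHN : M.comap (QuotientGroup.mk' N) ≠ N := by
      intro h
      apply hM0
      rw [eq_bot_iff]
      intro y hy
      obtain ⟨x, rfl⟩ := QuotientGroup.mk'_surjective N y
      have : x ∈ M.comap (QuotientGroup.mk' N) := hy
      rw [h] at this
      exact Subgroup.mem_bot.mpr ((QuotientGroup.eq_one_iff x).mpr this)
    have hpH : p ∣ Nat.card (M.comap (QuotientGroup.mk' N)) := by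
      by_contra h
      exact hHN (hNmax _ ⟨hHn, h⟩ hNH)
    have h1 : Nat.card (M.comap (QuotientGroup.mk' N)) = Nat.card N * Nat.card M := by
      have h2 := (M.comap (QuotientGroup.mk' N)).card_mul_index
      have h3 : (M.comap (QuotientGroup.mk' N)).index = M.index :=
        M.index_comap_of_surjective (QuotientGroup.mk'_surjective N)
      rw [h3, card_eq N M, ← mul_assoc] at h2
      exact Nat.eq_of_mul_eq_mul_right (Nat.pos_of_ne_zero M.index_ne_zero_of_finite) h2
    rw [h1] at hpH
    rcases hp.dvd_mul.mp hpH with h | h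
    · exact absurd h hNp
    · exact h
  -- a minimal normal subgroup of `G / N`
  obtain ⟨M, hMn, hM0, hMmin⟩ : ∃ M : Subgroup (G ⧸ N), M.Normal ∧ M ≠ ⊥ ∧
      ∀ L : Subgroup (G ⧸ N), L.Normal → L ≤ M → L = ⊥ ∨ L = M := by
    have hfin : {L : Subgroup (G ⧸ N) | L.Normal ∧ L ≠ ⊥}.Finite := Set.toFinite _
    obtain ⟨M, hM⟩ := hfin.exists_minimal ⟨⊤, Subgroup.normal_top, by
      intro h
      have h2 : Nat.card (G ⧸ N) = 1 := by
        have := Subgroup.card_top (G := G ⧸ N)
        rw [h, Subgroup.card_bot] at this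
        exact this.symm
      rw [← Subgroup.index_eq_card] at h2
      rw [h2] at hpidx
      exact hp.one_lt.ne' (Nat.dvd_one.mp hpidx)⟩
    refine ⟨M, hM.1.1, hM.1.2, fun L hL hLM => ?_⟩
    by_cases h : L = ⊥
    · exact Or.inl h
    · exact Or.inr (le_antisymm hLM (hM.2 ⟨hL, h⟩ hLM))
  have hpM : p ∣ Nat.card M := hquot M hMn hM0
  have hMG : Nat.card M * M.index ∣ Nat.card G := by
    rw [card_eq N M]
    exact Nat.dvd_mul_left _ _
  have hp2 : ∀ r : ℕ, r.Prime → n < 2 * r → r ≤ n → ¬ r ^ 2 ∣ Nat.card G := by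
    intro r hr h1 h2 h3
    have h4 := (hr.pow_dvd_iff_le_factorization Nat.card_pos.ne').mp h3
    rw [hfac r hr h1 h2] at h4
    omega
  have hp2M : ¬ p ^ 2 ∣ Nat.card M := fun h =>
    hp2 p hp hnp (by omega) ((h.trans (Nat.dvd_mul_right _ _)).trans hMG)
  have hsimple : IsSimpleGroup M := isSimple_of_minimal M hMmin hp hpM hp2M
  have hall : ∀ t : ℕ, t.Prime → n < 2 * t → t ≤ n → t ∣ Nat.card M := by
    intro t ht hnt htn
    by_cases htp : t = p
    · rw [htp]; exact hpM
    have htG : t ∣ Nat.card G := by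
      rw [ht.dvd_iff_one_le_factorization Nat.card_pos.ne', hfac t ht hnt htn]
    -- `t` does not divide `|N|`
    have htN : ¬ t ∣ Nat.card N := by
      intro h
      have h1 : (Nat.card N).factorization t = 1 := by
        have h2 : 1 ≤ (Nat.card N).factorization t :=
          (ht.dvd_iff_one_le_factorization Nat.card_pos.ne').mp h
        have h3 : (Nat.card N).factorization t ≤ (Nat.card G).factorization t :=
          (Nat.factorization_le_iff_dvd Nat.card_pos.ne' Nat.card_pos.ne').mpr
            (Subgroup.card_subgroup_dvd_card N) t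
        rw [hfac t ht hnt htn] at h3
        omega
      have h4 := pow_dvd_of_normal hp ht (Ne.symm htp)
        (hadj p t hp ht (Ne.symm htp) hnp hnt) N (k := 1) (by rw [pow_one]; exact hpidx)
      rw [h1, pow_one, pow_one] at h4
      exact not_dvd_sub_one hn hp ht hnp htn h4
    -- `t` does not divide `|G : H|`
    have htH : ¬ t ∣ M.index := by
      intro h
      have h1 : (Nat.card M).factorization p = 1 := by
        have h2 : 1 ≤ (Nat.card M).factorization p :=
          (hp.dvd_iff_one_le_factorization Nat.card_pos.ne').mp hpM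
        have h3 : ¬ 2 ≤ (Nat.card M).factorization p := fun h4 =>
          hp2M ((hp.pow_dvd_iff_le_factorization Nat.card_pos.ne').mpr h4)
        omega
      have h4 := pow_dvd_of_normal ht hp htp
        ((hadj t p ht hp htp hnt hnp).quotient N) M (k := 1) (by rw [pow_one]; exact h)
      rw [h1, pow_one, pow_one] at h4
      exact not_dvd_sub_one hn ht hp hnt (by omega) h4
    rw [card_eq N M] at htG
    rcases ht.dvd_mul.mp htG with h | h
    · exact absurd h htN
    · rcases ht.dvd_mul.mp h with h | h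
      · exact h
      · exact absurd h htH
  have hnonab : ¬ ∀ a b : M, a * b = b * a := by
    intro hcommM
    have hsM : s ∣ Nat.card M := hall s hs (by omega) hsn
    let _ : CommGroup M := { (inferInstance : Group M) with mul_comm := hcommM }
    have hprime : (Nat.card M).Prime := IsSimpleGroup.prime_card
    have h1 := (Nat.prime_dvd_prime_iff_eq hp hprime).mp hpM
    have h2 := (Nat.prime_dvd_prime_iff_eq hs hprime).mp hsM
    omega
  refine ⟨N, hNn, M, ⟨hMn, hsimple, hnonab, ?_, hall⟩⟩
  -- the centralizer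
  by_contra hC
  have hCn : (centralizer (M : Set (G ⧸ N))).Normal := Subgroup.normal_centralizer
  have hpC := hquot _ hCn hC
  -- `C ∩ M` is trivial
  have hdisj : Disjoint (centralizer (M : Set (G ⧸ N))) M := by
    rw [disjoint_iff]
    rcases hMmin (centralizer (M : Set (G ⧸ N)) ⊓ M) inferInstance inf_le_right with h1 | h1
    · exact h1
    · exfalso
      apply hnonab
      intro a b
      have hb : (b : G ⧸ N) ∈ centralizer (M : Set (G ⧸ N)) ⊓ M := by
        rw [h1]
        exact b.2
      apply Subtype.ext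
      exact (mem_centralizer_iff.mp (mem_inf.mp hb).1 a a.2)
  have h5 : Nat.card (centralizer (M : Set (G ⧸ N))) * Nat.card M ∣ Nat.card (G ⧸ N) := by
    have h6 : Nat.card (centralizer (M : Set (G ⧸ N))) ∣ Nat.card ((G ⧸ N) ⧸ M) := by
      apply Subgroup.card_dvd_of_injective
        ((QuotientGroup.mk' M).comp (centralizer (M : Set (G ⧸ N))).subtype)
      rw [injective_iff_map_eq_one]
      intro x hx
      have h7 : (x : G ⧸ N) ∈ M := (QuotientGroup.eq_one_iff (x : G ⧸ N)).mp hx
      have h8 : (x : G ⧸ N) ∈ centralizer (M : Set (G ⧸ N)) ⊓ M := mem_inf.mpr ⟨x.2, h7⟩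
      rw [disjoint_iff.mp hdisj] at h8
      exact Subtype.ext (mem_bot.mp h8)
    rw [← Subgroup.index_eq_card] at h6
    rw [← M.index_mul_card]
    exact Nat.mul_dvd_mul_right h6 _
  have h6 : p ^ 2 ∣ Nat.card G := by
    rw [pow_two, ← N.card_mul_index, Subgroup.index_eq_card]
    exact ((Nat.mul_dvd_mul hpC hpM).trans h5).mul_left _
  exact hp2 p hp hnp (by omega) h6

end Cfsg.Agent.H357.Reduce
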