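import Mathlib
import Cfsg.Agent.H357.Reduce
import Cfsg.Agent.H357.NT

/-!
# The primes greater than `n / 5` (helper357)

`vt_eq` : for `n ≥ 41` all primes `t > n / 5` divide `|M|` as often as `n!`.
-/

set_option autoImplicit false

namespace Cfsg.Agent.H357.Reduce

open Subgroup Cfsg.Agent.H363.Frat Cfsg.Agent.H363.AltPrimes

theorem factorial_factorization {n t : ℕ} (ht : t.Prime) (h : n < t * t) :
    n.factorial.factorization t = n / t := by
  rw [Nat.factorization_factorial ht (b := 2) (Nat.log_lt_of_lt_pow' (by norm_num) (by rw [pow_two]; exact h))]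
  simp

theorem B_dvd_of {n c : ℕ} (hc : c ≠ 0)
    (h : ∀ t : ℕ, t.Prime → n < 5 * t → t ≤ n → n / t ≤ c.factorization t) : Cheb.B n ∣ c := by
  unfold Cheb.B
  apply Finset.prod_dvd_of_isRelPrime
  · intro a ha b hb hab
    rw [Finset.mem_coe, Finset.mem_filter] at ha hb
    change IsRelPrime (a ^ (n / a)) (b ^ (n / b))
    rw [← Nat.coprime_iff_isRelPrime]
    exact Nat.Coprime.pow _ _ ((Nat.coprime_primes ha.2 hb.2).2 hab)
  · intro t ht
    rw [Finset.mem_filter, Finset.mem_Ioc] at ht
    exact (ht.2.pow_dvd_iff_le_factorization hc).2 (h t ht.2 (by omega) ht.1.2)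

variable {G : Type*} [Group G] [Finite G] {n : ℕ} {N : Subgroup G} [N.Normal] {M : Subgroup (G ⧸ N)}

omit [Finite G] in
theorem Data.card_dvd (_D : Data G n N M) : Nat.card M ∣ Nat.card G := by
  rw [card_eq N M]
  exact (Nat.dvd_mul_right _ _).mul_left _

theorem Data.fact_add (_D : Data G n N M) (t : ℕ) : (Nat.card G).factorization t =
    (Nat.card N).factorization t + ((Nat.card M).factorization t + M.index.factorization t) := by
  rw [card_eq N M, Nat.factorization_mul Nat.card_pos.ne'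
    (Nat.mul_ne_zero Nat.card_pos.ne' M.index_ne_zero_of_finite),
    Nat.factorization_mul Nat.card_pos.ne' M.index_ne_zero_of_finite, Finsupp.add_apply, Finsupp.add_apply]

/-- a large prime divides `|G|` and `|M|` exactly once -/
theorem Data.fact_large (D : Data G n N M) (h : Hyp G n) (hn : 11 ≤ n) {q : ℕ} (hq : q.Prime) (h1 : n < 2 * q)
    (h2 : q ≤ n) : (Nat.card M).factorization q = 1 ∧ (Nat.card N).factorization q = 0 ∧
      M.index.factorization q = 0 := by
  have e1 : (Nat.card G).factorization q = 1 := by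
    rw [h.odd q hq (by omega)]
    exact factorization_factorial hq h2 h1
  have e2 := D.fact_add q
  have e3 : 1 ≤ (Nat.card M).factorization q :=
    (hq.dvd_iff_one_le_factorization Nat.card_pos.ne').mp (D.primes q hq h1 h2)
  omega

theorem Data.dvd_pow_sub_one (D : Data G n N M) (h : Hyp G n) {t q : ℕ} (ht : t.Prime) (hq : q.Prime) (htq : t ≠ q)
    (h1 : n < 2 * q) (h2 : q ≤ n) (h3 : n < t + q) : q ∣ t ^ (Nat.card N).factorization t - 1 := by
  have hidx : q ^ 1 ∣ N.index := by
    rw [pow_one, Subgroup.index_eq_card, ← M.card_mul_index]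
    exact (D.primes q hq h1 h2).mul_right _
  have := pow_dvd_of_normal hq ht (Ne.symm htq) (h.adj q t hq ht (Ne.symm htq) (by omega)) N hidx
  rwa [pow_one] at this

theorem Data.dvd_sub_one (D : Data G n N M) (h : Hyp G n) (hn : 11 ≤ n) {t q : ℕ} (ht : t.Prime) (hq : q.Prime)
    (htq : t ≠ q) (h1 : n < 2 * q) (h2 : q ≤ n) (h3 : n < t + q) (hd : t ∣ M.index) : t ∣ q - 1 := by
  have hN := D.normal
  have h4 := pow_dvd_of_normal ht hq htq ((h.adj t q ht hq htq h3).quotient N) M (k := 1)
    (by rw [pow_one]; exact hd)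
  rw [(D.fact_large h hn hq h1 h2).1, pow_one, pow_one] at h4
  exact h4

/-- `t` odd prime, `n < 5 t`, `2 t ≤ n`, `n ≥ 41`: `t ∤ |N|` -/
theorem Data.fact_N (D : Data G n N M) (h : Hyp G n) (hn : 41 ≤ n) {t : ℕ} (ht : t.Prime) (h5 : n < 5 * t)
    (h2t : 2 * t ≤ n) : (Nat.card N).factorization t = 0 := by
  obtain ⟨r, s, hr, hs, h1, h2, h3⟩ := NT.two_primes hn
  by_contra ha0
  have hnt : n < t * t := by
    have : 5 ≤ t := by omega
    nlinarith
  have ha : (Nat.card N).factorization t * t ≤ n := by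
    have e1 : (Nat.card N).factorization t ≤ (Nat.card G).factorization t := by
      have := D.fact_add t
      omega
    rw [h.odd t ht (by omega), factorial_factorization ht hnt] at e1
    calc (Nat.card N).factorization t * t ≤ n / t * t := Nat.mul_le_mul_right t e1
      _ ≤ n := Nat.div_mul_le_self n t
  have hdr := D.dvd_pow_sub_one h ht hr (by omega) (by omega) (by omega) (by omega)
  have hds := D.dvd_pow_sub_one h ht hs (by omega) (by omega) h3 (by omega)
  have hcop : r.Coprime s := (Nat.coprime_primes hr hs).2 (by omega)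
  have ht9 : 9 ≤ t := by omega
  generalize (Nat.card N).factorization t = a at *
  have ha4 : a ≤ 4 := by
    by_contra hlt
    have : 5 * t ≤ a * t := Nat.mul_le_mul_right t (by omega)
    omega
  have hr0 : ¬ r ∣ t - 1 := fun hd => by
    have := Nat.le_of_dvd (by omega) hd
    omega
  have hs0 : ¬ s ∣ t - 1 := fun hd => by
    have := Nat.le_of_dvd (by omega) hd
    omega
  obtain ⟨u, rfl⟩ : ∃ u, t = u + 1 := ⟨t - 1, by omega⟩
  rw [Nat.add_sub_cancel] at hr0 hs0
  interval_cases a
  · exact ha0 rfl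
  · rw [pow_one, Nat.add_sub_cancel] at hdr
    exact hr0 hdr
  · have e : (u + 1) ^ 2 - 1 = u * (u + 2) := by
      have : (u + 1) ^ 2 = u * (u + 2) + 1 := by ring
      omega
    rw [e] at hdr
    have h6 := (hr.dvd_mul.1 hdr).resolve_left hr0
    have := Nat.le_of_dvd (by omega) h6
    omega
  · have e : (u + 1) ^ 3 - 1 = u * (u ^ 2 + 3 * u + 3) := by
      have : (u + 1) ^ 3 = u * (u ^ 2 + 3 * u + 3) + 1 := by ring
      omega
    rw [e] at hdr hds
    have h6 := (hr.dvd_mul.1 hdr).resolve_left hr0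
    have h7 := (hs.dvd_mul.1 hds).resolve_left hs0
    have h8 := Nat.le_of_dvd (by positivity) (hcop.mul_dvd_of_dvd_of_dvd h6 h7)
    nlinarith
  · have e : (u + 1) ^ 4 - 1 = u * ((u + 2) * (u ^ 2 + 2 * u + 2)) := by
      have : (u + 1) ^ 4 = u * ((u + 2) * (u ^ 2 + 2 * u + 2)) + 1 := by ring
      omega
    rw [e] at hdr hds
    have h6 := (hr.dvd_mul.1 hdr).resolve_left hr0
    have h7 := (hs.dvd_mul.1 hds).resolve_left hs0
    have hr2 : ¬ r ∣ u + 2 := fun hd => by
      have := Nat.le_of_dvd (by omega) hd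
      omega
    have hs2 : ¬ s ∣ u + 2 := fun hd => by
      have := Nat.le_of_dvd (by omega) hd
      omega
    have h6' := (hr.dvd_mul.1 h6).resolve_left hr2
    have h7' := (hs.dvd_mul.1 h7).resolve_left hs2
    have h8 := Nat.le_of_dvd (by positivity) (hcop.mul_dvd_of_dvd_of_dvd h6' h7')
    nlinarith

/-- `n < 5 t`, `2 t ≤ n`, `n ≥ 41`: `t ∤ |G/N : M|` -/
theorem Data.not_dvd_index (D : Data G n N M) (h : Hyp G n) (hn : 41 ≤ n) {t : ℕ} (ht : t.Prime) (h5 : n < 5 * t)
    (h2t : 2 * t ≤ n) : ¬ t ∣ M.index := by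
  obtain ⟨r, s, hr, hs, h1, h2, h3⟩ := NT.two_primes hn
  intro hd
  have hdr := D.dvd_sub_one h (by omega) ht hr (by omega) (by omega) (by omega) (by omega) hd
  have hds := D.dvd_sub_one h (by omega) ht hs (by omega) (by omega) h3 (by omega) hd
  obtain ⟨c, hc⟩ := hdr
  obtain ⟨d, hd'⟩ := hds
  obtain ⟨x, hx⟩ := hr.odd_of_ne_two (by omega)
  obtain ⟨y, hy⟩ := hs.odd_of_ne_two (by omega)
  obtain ⟨z, hz⟩ := ht.odd_of_ne_two (by omega)
  have hd5 : d < 5 := by
    by_contra hlt
    have : t * 5 ≤ t * d := Nat.mul_le_mul_left t (by omega)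
    omega
  have hcd : c < d := by
    by_contra hlt
    have : t * d ≤ t * c := Nat.mul_le_mul_left t (by omega)
    omega
  interval_cases d <;> interval_cases c <;> omega

/-- **All primes `t > n / 5` divide `|M|` as often as `n!`.** -/
theorem Data.vt_eq (D : Data G n N M) (h : Hyp G n) (hn : 41 ≤ n) {t : ℕ} (ht : t.Prime) (h5 : n < 5 * t)
    (htn : t ≤ n) : (Nat.card M).factorization t = n / t := by
  have hnt : n < t * t := by
    have : 5 ≤ t := by omega
    nlinarith
  have ht2 : t ≠ 2 := by omega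
  rw [← factorial_factorization ht hnt, ← h.odd t ht ht2, D.fact_add t]
  by_cases h2t : 2 * t ≤ n
  · rw [D.fact_N h hn ht h5 h2t, Nat.factorization_eq_zero_of_not_dvd (D.not_dvd_index h hn ht h5 h2t)]
    omega
  · obtain ⟨e1, e2, e3⟩ := D.fact_large h (by omega) ht (by omega) htn
    omega

/-- `B n` divides `|M|` -/
theorem Data.B_dvd (D : Data G n N M) (h : Hyp G n) (hn : 41 ≤ n) : Cheb.B n ∣ Nat.card M := by
  apply B_dvd_of
  · exact Nat.card_pos.ne'
  · intro t ht h1 h2
    exact (D.vt_eq h hn ht h1 h2).ge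

end Cfsg.Agent.H357.Reduce
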