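import Mathlib
import Cfsg.Agent.H357.NT

/-!
# A theorem of Sylvester (helper357)

`exists_large_dvd` : if there is no prime in `(m, n]`, `13 ≤ n`, `m < n`, then a prime `t > n - m` divides a number
of `(m, n]`.
-/

set_option autoImplicit false

namespace Cfsg.Agent.H357.NT

open Finset Cfsg.Agent.H357.Cheb

theorem pow_le_mul_choose {n k : ℕ} (hk : k ≤ n) : n ^ k ≤ k ^ k * n.choose k := by
  have h1 : n ^ k * k.factorial ≤ k ^ k * n.descFactorial k := by
    rw [← Nat.descFactorial_self k, Nat.descFactorial_eq_prod_range, Nat.descFactorial_eq_prod_range]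
    have e1 : ∀ a : ℕ, a ^ k = ∏ i ∈ range k, a := fun a => by rw [prod_const, card_range]
    rw [e1 n, e1 k, ← prod_mul_distrib, ← prod_mul_distrib]
    apply Finset.prod_le_prod'
    intro i _
    rw [Nat.mul_sub, Nat.mul_sub, Nat.mul_comm n k]
    exact Nat.sub_le_sub_left (Nat.mul_le_mul_right i hk) _
  rw [Nat.descFactorial_eq_factorial_mul_choose] at h1
  have h2 : n ^ k * k.factorial ≤ (k ^ k * n.choose k) * k.factorial := by
    calc n ^ k * k.factorial ≤ k ^ k * (k.factorial * n.choose k) := h1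
      _ = (k ^ k * n.choose k) * k.factorial := by ring
  exact Nat.le_of_mul_le_mul_right h2 k.factorial_pos

/-- a prime divisor of `choose n k` divides one of `n, n - 1, …, n - k + 1` -/
theorem exists_dvd_of_dvd_choose {n k p : ℕ} (hp : p.Prime) (h : p ∣ n.choose k) : ∃ i, i < k ∧ p ∣ n - i := by
  have h1 : p ∣ n.descFactorial k := by
    rw [Nat.descFactorial_eq_factorial_mul_choose]
    exact h.mul_left _
  rw [Nat.descFactorial_eq_prod_range] at h1
  obtain ⟨i, hi, hd⟩ := (Prime.dvd_finsetProd_iff hp.prime _).1 h1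
  exact ⟨i, mem_range.1 hi, hd⟩

theorem choose_eq_prod {n k : ℕ} (hk : k ≤ n) (h : ∀ p : ℕ, p.Prime → p ∣ n.choose k → p ≤ k) :
    n.choose k = ∏ p ∈ (range (k + 1)).filter Nat.Prime, p ^ (n.choose k).factorization p := by
  conv_lhs => rw [← Nat.prod_pow_factorization_choose n k hk]
  symm
  apply Finset.prod_subset
  · intro p hp
    rw [mem_filter, mem_range] at hp
    rw [mem_range]
    omega
  · intro p _ hp
    have h0 : (n.choose k).factorization p = 0 := by
      by_contra hne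
      have hpp : p.Prime := by
        by_contra hnp
        exact hne (Nat.factorization_eq_zero_of_not_prime _ hnp)
      have hd : p ∣ n.choose k := Nat.dvd_of_factorization_pos hne
      apply hp
      rw [mem_filter, mem_range]
      exact ⟨Nat.lt_succ_of_le (h p hpp hd), hpp⟩
    rw [h0, pow_zero]

theorem card_primes (k : ℕ) : ((range (k + 1)).filter Nat.Prime).card = Nat.primeCounting k := by
  rw [Nat.primeCounting, Nat.primeCounting', Nat.count_eq_card_filter_range]

theorem choose_le_pow {n k : ℕ} (hk : k ≤ n) (hn : 0 < n) (h : ∀ p : ℕ, p.Prime → p ∣ n.choose k → p ≤ k) :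
    n.choose k ≤ n ^ Nat.primeCounting k := by
  rw [choose_eq_prod hk h, ← card_primes, ← prod_const]
  apply Finset.prod_le_prod'
  intro p _
  exact Nat.pow_factorization_choose_le hn

theorem choose_le_pow_mul {n k : ℕ} (hk : k ≤ n) (hn : 0 < n) (h : ∀ p : ℕ, p.Prime → p ∣ n.choose k → p ≤ k) :
    n.choose k ≤ n ^ Nat.primeCounting (Nat.sqrt n) * 4 ^ k := by
  rw [choose_eq_prod hk h]
  have h1 : ∏ p ∈ (range (k + 1)).filter Nat.Prime, p ^ (n.choose k).factorization p ≤
      ∏ p ∈ (range (k + 1)).filter Nat.Prime, (if p ≤ Nat.sqrt n then n else 1) * p := by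
    apply Finset.prod_le_prod'
    intro p hp
    rw [mem_filter] at hp
    split_ifs with hs
    · calc p ^ (n.choose k).factorization p ≤ n := Nat.pow_factorization_choose_le hn
        _ ≤ n * p := Nat.le_mul_of_pos_right _ hp.2.pos
    · rw [one_mul]
      have h2 : (n.choose k).factorization p ≤ 1 := by
        apply Nat.factorization_choose_le_one
        rw [pow_two]
        exact Nat.sqrt_lt.1 (not_le.1 hs)
      calc p ^ (n.choose k).factorization p ≤ p ^ 1 := Nat.pow_le_pow_right hp.2.pos h2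
        _ = p := pow_one p
  refine h1.trans ?_
  rw [prod_mul_distrib]
  apply Nat.mul_le_mul
  · rw [← prod_filter, prod_const]
    apply Nat.pow_le_pow_right hn
    rw [← card_primes]
    apply Finset.card_le_card
    intro p hp
    rw [mem_filter, mem_filter] at hp
    rw [mem_filter, mem_range]
    exact ⟨Nat.lt_succ_of_le hp.2, hp.1.2⟩
  · exact primorial_le_four_pow k

/-! ### prime counting -/

theorem three_pi_le {s : ℕ} (hs : 37 ≤ s) : 3 * Nat.primeCounting s ≤ s := by
  rcases Nat.lt_or_ge s 150 with h | h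
  · have key : ∀ j < 113, 3 * Nat.primeCounting (37 + j) ≤ 37 + j := by decide +kernel
    have := key (s - 37) (by omega)
    rwa [show 37 + (s - 37) = s by omega] at this
  · have h1 := Nat.primeCounting'_add_le (a := 30) (k := 31) (by norm_num) (by norm_num) (s - 30)
    have h2 : Nat.primeCounting' 31 = 10 := by decide +kernel
    have h3 : Nat.totient 30 = 8 := by decide +kernel
    have h4 : Nat.primeCounting s = Nat.primeCounting' (31 + (s - 30)) := by
      rw [Nat.primeCounting, show 31 + (s - 30) = s + 1 by omega]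
    rw [h4]
    rw [h2, h3] at h1
    omega

theorem two_pi_lt {k : ℕ} (hk : 9 ≤ k) : 2 * Nat.primeCounting k < k := by
  rcases Nat.lt_or_ge k 37 with h | h
  · have key : ∀ j < 28, 2 * Nat.primeCounting (9 + j) < 9 + j := by decide +kernel
    have := key (k - 9) (by omega)
    rwa [show 9 + (k - 9) = k by omega] at this
  · have := three_pi_le h
    omega

/-! ### the two ranges -/

/-- the range `k ^ 2 ≤ n` -/
theorem false_of_small {n k : ℕ} (hn : 127 ≤ n) (hk1 : 1 ≤ k) (hk : k * k ≤ n)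
    (h : ∀ p : ℕ, p.Prime → p ∣ n.choose k → p ≤ k) : False := by
  have hkn : k ≤ n := le_trans (Nat.le_mul_self k) hk
  have h1 := pow_le_mul_choose hkn
  have h2 := choose_le_pow hkn (by omega) h
  have h3 : n ^ k ≤ k ^ k * n ^ Nat.primeCounting k := h1.trans (Nat.mul_le_mul_left _ h2)
  have hpi : Nat.primeCounting k ≤ k := by
    rcases Nat.lt_or_ge k 9 with h9 | h9
    · have key : ∀ j < 9, Nat.primeCounting j ≤ j := by decide +kernel
      exact key k h9
    · have := two_pi_lt h9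
      omega
  have h4 : n ^ (k - Nat.primeCounting k) ≤ k ^ k := by
    have e : n ^ k = n ^ (k - Nat.primeCounting k) * n ^ Nat.primeCounting k := by
      rw [← pow_add, Nat.sub_add_cancel hpi]
    rw [e] at h3
    exact Nat.le_of_mul_le_mul_right h3 (pow_pos (by omega) _)
  rcases Nat.lt_or_ge k 9 with h9 | h9
  · have hpos : ∀ j < 9, 1 ≤ j → j ^ j < 127 ^ (j - Nat.primeCounting j) := by decide +kernel
    have h5 := hpos k h9 hk1
    have h6 : 127 ^ (k - Nat.primeCounting k) ≤ n ^ (k - Nat.primeCounting k) := Nat.pow_le_pow_left hn _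
    omega
  · have h5 := two_pi_lt h9
    have h6 : (n ^ (k - Nat.primeCounting k)) ^ 2 ≤ (k ^ k) ^ 2 := Nat.pow_le_pow_left h4 2
    have h7 : (k ^ k) ^ 2 ≤ n ^ k := by
      calc (k ^ k) ^ 2 = (k * k) ^ k := by rw [← pow_mul, Nat.mul_comm, pow_mul, pow_two]
        _ ≤ n ^ k := Nat.pow_le_pow_left hk k
    have h8 : n ^ k < (n ^ (k - Nat.primeCounting k)) ^ 2 := by
      rw [← pow_mul]
      exact Nat.pow_lt_pow_right (by omega) (by omega)
    omega

/-- the range `k ^ 2 > n`, `5 k ≤ n` -/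
theorem false_of_large {n k : ℕ} (hn : 4225 ≤ n) (hk : n ≤ k * k) (hk5 : 5 * k ≤ n)
    (h : ∀ p : ℕ, p.Prime → p ∣ n.choose k → p ≤ k) : False := by
  have hkn : k ≤ n := by omega
  have h1 := pow_le_mul_choose hkn
  have h2 := choose_le_pow_mul hkn (by omega) h
  have h3 : n ^ k ≤ k ^ k * (n ^ Nat.primeCounting (Nat.sqrt n) * 4 ^ k) := h1.trans (Nat.mul_le_mul_left _ h2)
  have hs : 65 ≤ Nat.sqrt n := Nat.le_sqrt.2 hn
  have hpi := three_pi_le (s := Nat.sqrt n) (by omega)
  have hk0 : 0 < k := by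
    rcases Nat.eq_zero_or_pos k with h0 | h0
    · subst h0
      omega
    · exact h0
  -- pass to logarithms
  have hnR : (4225 : ℝ) ≤ n := by exact_mod_cast hn
  have hn0 : (0 : ℝ) < n := by linarith
  have hk0R : (0 : ℝ) < k := by exact_mod_cast hk0
  have h4 : (k : ℝ) * Real.log n ≤ k * Real.log k + (Nat.primeCounting (Nat.sqrt n) * Real.log n + k * Real.log 4) := by
    have h5 : Real.log (((n ^ k : ℕ) : ℝ)) ≤
        Real.log (((k ^ k * (n ^ Nat.primeCounting (Nat.sqrt n) * 4 ^ k) : ℕ) : ℝ)) := by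
      apply Real.log_le_log
      · have : 0 < n ^ k := pow_pos (by omega) k
        exact_mod_cast this
      · exact_mod_cast h3
    push_cast at h5
    rw [Real.log_mul (by positivity) (by positivity), Real.log_mul (by positivity) (by positivity), Real.log_pow,
      Real.log_pow, Real.log_pow, Real.log_pow] at h5
    exact h5
  set x : ℝ := √(n : ℝ) with hx
  have hx2 : x * x = n := Real.mul_self_sqrt hn0.le
  have hx65 : 65 ≤ x := by
    rw [hx]
    apply Real.le_sqrt_of_sq_le
    linarith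
  have hx0 : 0 < x := by linarith
  have hlogn : Real.log n = 2 * Real.log x := by
    rw [← hx2, Real.log_mul hx0.ne' hx0.ne']
    ring
  have hpi' : 3 * (Nat.primeCounting (Nat.sqrt n) : ℝ) ≤ x := by
    have h6 : ((3 * Nat.primeCounting (Nat.sqrt n) : ℕ) : ℝ) ≤ ((Nat.sqrt n : ℕ) : ℝ) := by exact_mod_cast hpi
    have h7 : ((Nat.sqrt n : ℕ) : ℝ) ≤ x := by
      rw [hx]
      apply Real.le_sqrt_of_sq_le
      have : Nat.sqrt n ^ 2 ≤ n := by
        rw [pow_two]
        exact Nat.sqrt_le n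
      exact_mod_cast this
    push_cast at h6
    linarith
  -- the concave function
  let f : ℝ → ℝ := fun y => y * (Real.log n - Real.log 4) + Real.negMulLog y
  have hf : ConcaveOn ℝ (Set.Ici (0 : ℝ)) f := by
    apply ConcaveOn.add _ Real.concaveOn_negMulLog
    have : (fun y : ℝ => y * (Real.log n - Real.log 4)) =
        (fun y : ℝ => (LinearMap.mulRight ℝ (Real.log n - Real.log 4)) y) := by
      funext y
      simp
    rw [this]
    exact (LinearMap.mulRight ℝ (Real.log n - Real.log 4)).concaveOn (convex_Ici 0)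
  have hxk : x ≤ k := by
    rw [hx, Real.sqrt_le_left hk0R.le]
    have : n ≤ k ^ 2 := by rw [pow_two]; exact hk
    exact_mod_cast this
  have hk5R : (k : ℝ) ≤ n / 5 := by
    have : ((5 * k : ℕ) : ℝ) ≤ n := by exact_mod_cast hk5
    push_cast at this
    linarith
  have hmin := hf.min_le_of_mem_Icc (x := x) (y := (n : ℝ) / 5) (z := k)
    (Set.mem_Ici.2 hx0.le) (Set.mem_Ici.2 (by positivity)) ⟨hxk, hk5R⟩
  have hfk : f k ≤ Nat.primeCounting (Nat.sqrt n) * Real.log n := by
    simp only [f, Real.negMulLog]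
    linarith
  have hlog4 : Real.log 4 = 2 * Real.log 2 := by
    rw [show (4 : ℝ) = 2 ^ 2 by norm_num, Real.log_pow]
    push_cast
    ring
  have g2 := Real.log_two_gt_d9
  have g2' := Real.log_two_lt_d9
  have g5 := Real.log_five_gt_d9
  -- `log x > 3 log 4 = 6 log 2 = log 64`
  have hlx : 6 * Real.log 2 < Real.log x := by
    have : 6 * Real.log 2 = Real.log 64 := by
      rw [show (64 : ℝ) = 2 ^ 6 by norm_num, Real.log_pow]
      push_cast
      ring
    rw [this]
    apply Real.log_lt_log (by norm_num)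
    linarith
  have hlx' := log_le_tangent hx0 (show (0 : ℝ) < 64 by norm_num)
  have h64 : Real.log 64 = 6 * Real.log 2 := by
    rw [show (64 : ℝ) = 2 ^ 6 by norm_num, Real.log_pow]
    push_cast
    ring
  rw [h64] at hlx'
  have hlog0 : 0 < Real.log x := by linarith
  have hrhs : Nat.primeCounting (Nat.sqrt n) * Real.log n ≤ 2 / 3 * (x * Real.log x) := by
    rw [hlogn]
    nlinarith
  have hfx : 2 / 3 * (x * Real.log x) < f x := by
    simp only [f, Real.negMulLog]
    rw [hlogn, hlog4]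
    nlinarith
  have hfn : 2 / 3 * (x * Real.log x) < f (n / 5) := by
    simp only [f, Real.negMulLog]
    rw [Real.log_div hn0.ne' (by norm_num), hlog4, ← hx2]
    have e : x * x / 5 * (Real.log (x * x) - 2 * Real.log 2) + -(x * x / 5) * (Real.log (x * x) - Real.log 5) =
        x * (x / 5 * (Real.log 5 - 2 * Real.log 2)) := by ring
    rw [e, show 2 / 3 * (x * Real.log x) = x * (2 / 3 * Real.log x) by ring]
    apply mul_lt_mul_of_pos_left _ hx0
    nlinarith
  rcases le_total (f x) (f (n / 5)) with hc | hc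
  · rw [min_eq_left hc] at hmin
    linarith
  · rw [min_eq_right hc] at hmin
    linarith

/-! ### the gap table -/

def gaps : List (ℕ × ℕ) := [(127, 139), (139, 152), (151, 164), (163, 177), (173, 187), (181, 195), (193, 208), (199, 214), (211, 227),
    (227, 243), (241, 258), (257, 274), (271, 288), (283, 301), (293, 311), (311, 330), (317, 336), (331, 350),
    (349, 369), (367, 387), (383, 404), (401, 422), (421, 443), (443, 465), (463, 486), (479, 502), (499, 522),
    (521, 545), (541, 565), (563, 588), (587, 612), (607, 633), (631, 657), (653, 680), (677, 704), (701, 728),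
    (727, 755), (751, 779), (773, 802), (797, 826), (823, 853), (853, 883), (883, 914), (911, 942), (941, 973),
    (971, 1003), (997, 1030), (1021, 1054), (1051, 1084), (1069, 1103), (1103, 1137), (1129, 1164), (1163,
    1198), (1193, 1229), (1229, 1265), (1259, 1295), (1291, 1328), (1327, 1364), (1361, 1399), (1399, 1437),
    (1433, 1472), (1471, 1510), (1499, 1539), (1531, 1571), (1571, 1612), (1609, 1650), (1637, 1678), (1669,
    1711), (1709, 1751), (1747, 1790), (1789, 1832), (1831, 1875), (1873, 1917), (1913, 1958), (1951, 1996),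
    (1993, 2039), (2039, 2085), (2083, 2130), (2129, 2176), (2161, 2208), (2207, 2255), (2251, 2299), (2297,
    2346), (2341, 2390), (2389, 2439), (2437, 2487), (2477, 2528), (2521, 2572), (2557, 2609), (2609, 2661),
    (2659, 2712), (2711, 2764), (2753, 2806), (2803, 2857), (2857, 2911), (2909, 2964), (2963, 3018), (3011,
    3067), (3067, 3123), (3121, 3178), (3169, 3226), (3221, 3279), (3271, 3329), (3329, 3388), (3373, 3432),
    (3413, 3472), (3469, 3529), (3529, 3589), (3583, 3644), (3643, 3704), (3701, 3763), (3761, 3823), (3823,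
    3886), (3881, 3944), (3943, 4007), (4007, 4071), (4057, 4122), (4111, 4176), (4159, 4224), (4219, 4285),
    (4283, 4349)]

def chkGaps : ℕ → List (ℕ × ℕ) → Bool
  | x, [] => Nat.ble 4225 x
  | x, c :: l => Nat.ble c.1 x && isP c.1 && Nat.ble ((c.2 - 1 - c.1) * (c.2 - 1 - c.1)) (c.2 - 1) && chkGaps c.2 l

theorem of_chkGaps : ∀ (l : List (ℕ × ℕ)) (x : ℕ), chkGaps x l = true → ∀ n, x ≤ n → n < 4225 →
    ∃ p, p.Prime ∧ p ≤ n ∧ (n - p) * (n - p) ≤ n
  | [], x, h, n, h1, h2 => by
    unfold chkGaps at h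
    rw [Nat.ble_eq] at h
    omega
  | c :: l, x, h, n, h1, h2 => by
    unfold chkGaps at h
    simp only [Bool.and_eq_true, Nat.ble_eq] at h
    obtain ⟨⟨⟨h3, h4⟩, h5⟩, h8⟩ := h
    by_cases hb : c.2 ≤ n
    · exact of_chkGaps l c.2 h8 n hb h2
    · refine ⟨c.1, prime_of_isP h4, by omega, ?_⟩
      obtain ⟨d, hd⟩ : ∃ d, n = c.1 + d := ⟨n - c.1, by omega⟩
      obtain ⟨D, hD⟩ : ∃ D, c.2 - 1 = c.1 + D := ⟨c.2 - 1 - c.1, by omega⟩
      have hdD : d ≤ D := by omega
      rw [hd, Nat.add_sub_cancel_left]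
      rw [hD, Nat.add_sub_cancel_left] at h5
      obtain ⟨e, rfl⟩ := Nat.exists_eq_add_of_le hdD
      have he : e ≤ e * e := Nat.le_mul_self e
      have h6 : (d + e) * (d + e) = d * d + 2 * (d * e) + e * e := by ring
      rw [h6] at h5
      generalize d * d = A at h5 ⊢
      generalize d * e = B at h5
      generalize e * e = E at h5 he
      omega

theorem chkGaps_ok : chkGaps 127 gaps = true := by decide +kernel

/-! ### small degrees -/

def isQ (t : ℕ) : Bool := Nat.beq t 3 || isP t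

def sylOk (n k : ℕ) : Bool :=
  (List.range k).any fun j => (List.range (n + 1)).any fun t =>
    Nat.blt k t && Nat.beq ((n - j) % t) 0 && isQ t

def smallPrimes : List (ℕ × ℕ) := [(13, 17), (17, 19), (19, 23), (23, 29), (29, 31), (31, 37), (37, 41), (41, 43), (43, 47), (47, 53), (53, 59),
    (59, 61), (61, 67), (67, 71), (71, 73), (73, 79), (79, 83), (83, 89), (89, 97), (97, 101), (101, 103), (103,
    107), (107, 109), (109, 113), (113, 127)]

def chkSmall (l : List (ℕ × ℕ)) : Bool :=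
  l.all fun c => isP c.1 && (List.range (c.2 - c.1)).all fun e => (List.range (e + 1)).all fun k =>
    Nat.blt k 2 || sylOk (c.1 + e) k

theorem chkSmall_ok : chkSmall smallPrimes = true := by decide +kernel

theorem cover_small : ∀ n : ℕ, 13 ≤ n → n < 127 → ∃ c ∈ smallPrimes, c.1 ≤ n ∧ n < c.2 := by
  have key : ∀ j < 114, ∃ c ∈ smallPrimes, c.1 ≤ 13 + j ∧ 13 + j < c.2 := by decide +kernel
  intro n h1 h2
  obtain ⟨c, hc, h3, h4⟩ := key (n - 13) (by omega)
  exact ⟨c, hc, by omega, by omega⟩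

theorem of_sylOk {n k : ℕ} (h : sylOk n k = true) : ∃ t i : ℕ, t.Prime ∧ k < t ∧ i < k ∧ t ∣ n - i := by
  unfold sylOk at h
  rw [List.any_eq_true] at h
  obtain ⟨j, hj, h⟩ := h
  rw [List.any_eq_true] at h
  obtain ⟨t, ht, h⟩ := h
  simp only [Bool.and_eq_true, Nat.blt_eq, Nat.beq_eq] at h
  exact ⟨t, j, (prime_or h.2).1, h.1.1, List.mem_range.1 hj, Nat.dvd_of_mod_eq_zero h.1.2⟩

/-- **Sylvester**: if `(m, n]` contains no prime, a prime `t > n - m` divides a number of `(m, n]`; `t` is odd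
or `n = m + 1` is a power of `2`. -/
theorem exists_large_dvd {n m : ℕ} (hn : 13 ≤ n) (hm : m < n) (hgap : ∀ p : ℕ, p.Prime → p ≤ n → p ≤ m) :
    ∃ t i : ℕ, t.Prime ∧ (t ≠ 2 ∨ (n = m + 1 ∧ ∃ a, n = 2 ^ a)) ∧ n - m < t ∧ m < i ∧ i ≤ n ∧ t ∣ i := by
  by_cases hk1 : n = m + 1
  · rcases Nat.eq_two_pow_or_exists_odd_prime_and_dvd n with ⟨a, ha⟩ | ⟨p, hp, hpn, hodd⟩
    · refine ⟨2, n, Nat.prime_two, Or.inr ⟨hk1, a, ha⟩, by omega, hm, le_rfl, ?_⟩
      rw [ha]
      apply dvd_pow_self
      rintro rfl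
      omega
    · have := hp.two_le
      exact ⟨p, n, hp, Or.inl (by rintro rfl; exact absurd hodd (by decide)), by omega, hm, le_rfl, hpn⟩
  · by_contra hcon
    push Not at hcon
    have hk2 : 2 ≤ n - m := by omega
    have hcon' : ∀ t i : ℕ, t.Prime → n - m < t → m < i → i ≤ n → ¬ t ∣ i := by
      intro t i ht h1 h2 h3 h4
      exact hcon t i ht (Or.inl (by omega)) h1 h2 h3 h4
    have hch : ∀ p : ℕ, p.Prime → p ∣ n.choose (n - m) → p ≤ n - m := by
      intro p hp hd
      by_contra hlt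
      obtain ⟨i, hi, hd'⟩ := exists_dvd_of_dvd_choose hp hd
      exact hcon' p (n - i) hp (by omega) (by omega) (by omega) hd'
    rcases Nat.lt_or_ge n 127 with h127 | h127
    · obtain ⟨c, hc, h1, h2⟩ := cover_small n hn h127
      have h3 := List.all_eq_true.1 chkSmall_ok c hc
      rw [Bool.and_eq_true, List.all_eq_true] at h3
      obtain ⟨h3, h4⟩ := h3
      have h5 := hgap c.1 (prime_of_isP h3) h1
      have h6 := h4 (n - c.1) (List.mem_range.2 (by omega))
      rw [List.all_eq_true] at h6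
      have h7 := h6 (n - m) (List.mem_range.2 (by omega))
      rw [Bool.or_eq_true, Nat.blt_eq, show c.1 + (n - c.1) = n by omega] at h7
      rcases h7 with h7 | h7
      · omega
      · obtain ⟨t, i, ht, h8, h9, h10⟩ := of_sylOk h7
        exact hcon' t (n - i) ht h8 (by omega) (by omega) h10
    · rcases Nat.lt_or_ge n 4225 with h | h
      · obtain ⟨p, hp, hpn, hsq⟩ := of_chkGaps gaps 127 chkGaps_ok n h127 h
        have h5 := hgap p hp hpn
        exact false_of_small h127 (by omega) ((Nat.mul_le_mul (by omega) (by omega)).trans hsq) hch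
      · obtain ⟨r, s, hr, hs, h1, h2, h3⟩ := two_primes (n := n) (by omega)
        have h5 := hgap s hs h3
        by_cases hsq : (n - m) * (n - m) ≤ n
        · exact false_of_small h127 (by omega) hsq hch
        · exact false_of_large h (by omega) (by omega) hch

/-! ### the arithmetic used for the degree -/

def fin : List (ℕ × ℕ × ℕ × ℕ × List ℕ) := [(14, 13, 7, 14, [13]), (15, 13, 7, 14, [13]), (15, 14, 3, 15, [13]), (16, 13, 7, 14, [13]), (16, 14, 5, 15, [3,
    11]), (16, 15, 2, 16, [3, 5, 7]), (18, 17, 3, 18, [17]), (20, 19, 5, 20, [19]), (21, 19, 5, 20, [19]), (21,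
    20, 3, 21, [7, 13]), (22, 19, 5, 20, [19]), (22, 20, 3, 21, [7, 13]), (22, 21, 11, 22, [3, 5, 13]), (24, 23,
    3, 24, [5, 7, 11]), (25, 23, 3, 24, [5, 7, 11]), (25, 24, 5, 25, [7, 17]), (26, 23, 5, 25, [3, 7, 13]), (26,
    24, 5, 25, [7, 17]), (26, 25, 13, 26, [3, 5, 17]), (27, 23, 5, 25, [3, 7, 13]), (27, 24, 5, 25, [7, 17]),
    (27, 25, 13, 26, [3, 5, 17]), (27, 26, 3, 27, [7, 19]), (28, 23, 13, 26, [5, 7, 11]), (28, 24, 5, 25, [7,
    17]), (28, 25, 13, 26, [3, 5, 17]), (28, 26, 3, 27, [7, 19]), (28, 27, 7, 28, [3, 5, 19])]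

def chkFin : Bool := fin.all fun c =>
  let n := c.1; let m := c.2.1; let t := c.2.2.1; let i := c.2.2.2.1; let l := c.2.2.2.2
  (isQ t || (Nat.beq t 2 && Nat.beq n 16 && Nat.beq m 15)) && Nat.blt (n - m) t && Nat.blt m i && Nat.ble i n &&
  Nat.beq (i % t) 0 && incP 0 l && (l.all fun x => !(Nat.beq x t)) && Nat.ble l.sum m && Nat.blt n (t + l.sum)

theorem chkFin_ok : chkFin = true := by decide +kernel

theorem mem_fin : ∀ n : ℕ, 13 ≤ n → n ≤ 28 → ∀ m < n, (∀ p ≤ n, p.Prime → p ≤ m) →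
    ∃ c ∈ fin, c.1 = n ∧ c.2.1 = m := by
  have key : ∀ j ≤ 15, ∀ m < 13 + j, (∀ p ≤ 13 + j, p.Prime → p ≤ m) → ∃ c ∈ fin, c.1 = 13 + j ∧ c.2.1 = m := by
    decide +kernel
  intro n h1 h2 m hm hp
  have h := key (n - 13) (by omega) m (by omega)
  rw [show 13 + (n - 13) = n by omega] at h
  exact h hp

/-- the arithmetic for the degree `m < n` -/
theorem exists_num {n m : ℕ} (hn : 13 ≤ n) (hm : m < n) (hgap : ∀ p : ℕ, p.Prime → p ≤ n → p ≤ m) :
    ∃ (t i : ℕ) (P : Finset ℕ), t.Prime ∧ (t ≠ 2 ∨ (n = m + 1 ∧ ∃ a, n = 2 ^ a)) ∧ n - m < t ∧ m < i ∧ i ≤ n ∧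
      t ∣ i ∧ (∀ p ∈ P, p.Prime ∧ p ≠ 2 ∧ p ≠ t) ∧ ∑ p ∈ P, p ≤ m ∧ n < t + ∑ p ∈ P, p := by
  rcases Nat.lt_or_ge m 28 with h28 | h28
  · have hn28 : n ≤ 28 := by
      by_contra h
      have := hgap 29 (by norm_num) (by omega)
      omega
    obtain ⟨c, hc, rfl, rfl⟩ := mem_fin n hn hn28 m hm (fun p h1 h2 => hgap p h2 h1)
    have h1 := List.all_eq_true.1 (show (fin.all _) = true from chkFin_ok) c hc
    simp only [Bool.and_eq_true, Bool.or_eq_true, Nat.blt_eq, Nat.ble_eq, Nat.beq_eq, List.all_eq_true] at h1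
    obtain ⟨⟨⟨⟨⟨⟨⟨⟨h2, h3⟩, h4⟩, h5⟩, h6⟩, h7⟩, h8⟩, h9⟩, h10⟩ := h1
    obtain ⟨hnd, hpr⟩ := incP_spec c.2.2.2.2 0 h7
    refine ⟨c.2.2.1, c.2.2.2.1, ⟨(c.2.2.2.2 : Multiset ℕ), hnd⟩, ?_, ?_, h3, h4, h5, Nat.dvd_of_mod_eq_zero h6,
      fun p hp => ?_, ?_, ?_⟩
    · rcases h2 with h2 | h2
      · exact (prime_or h2).1
      · rw [h2.1.1]
        exact Nat.prime_two
    · rcases h2 with h2 | h2
      · exact Or.inl (prime_or h2).2
      · exact Or.inr ⟨by rw [h2.1.2, h2.2], 4, by rw [h2.1.2]; norm_num⟩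
    · have hp' : p ∈ c.2.2.2.2 := hp
      refine ⟨(hpr p hp').2.1, (hpr p hp').2.2, ?_⟩
      intro e
      have := h8 p hp'
      rw [Bool.not_eq_true', ← Bool.not_eq_true, Nat.beq_eq] at this
      exact this e
    · have e : ∑ p ∈ (⟨(c.2.2.2.2 : Multiset ℕ), hnd⟩ : Finset ℕ), p = c.2.2.2.2.sum := by simp [Finset.sum]
      rw [e]
      exact h9
    · have e : ∑ p ∈ (⟨(c.2.2.2.2 : Multiset ℕ), hnd⟩ : Finset ℕ), p = c.2.2.2.2.sum := by simp [Finset.sum]
      rw [e]
      exact h10
  · obtain ⟨t, i, ht, h1, h2, h3, h4, h5⟩ := exists_large_dvd hn hm hgap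
    obtain ⟨P, hP, hsum⟩ := exists_rep h28 t
    exact ⟨t, i, P, ht, h1, h2, h3, h4, h5, hP, by omega, by omega⟩

end Cfsg.Agent.H357.NT
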