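import Mathlib
import Cfsg.Agent.H357.Reduce
import Cfsg.Agent.H357.PermOrd

/-!
# Centralizers covering the simple section (helper357)
-/

set_option autoImplicit false

namespace Cfsg.Agent.H357.Reduce

open Subgroup Cfsg.Agent.H363.Frat

/-- a nontrivial normal subgroup contains `M` -/
theorem Data.le_of_normal {G : Type*} [Group G] {n : ℕ} {N : Subgroup G} [N.Normal]
    {M : Subgroup (G ⧸ N)} (D : Data G n N M) {C : Subgroup (G ⧸ N)} (hC : C.Normal) (h1 : C ≠ ⊥) : M ≤ C := by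
  have hM := D.normal
  have hs := D.simple
  have hn : (C.subgroupOf M).Normal := hC.subgroupOf M
  rcases hn.eq_bot_or_eq_top with h | h
  · exfalso
    apply h1
    rw [eq_bot_iff, ← D.cent]
    intro c hc
    rw [mem_centralizer_iff]
    intro m hm
    have h2 : m * c * m⁻¹ * c⁻¹ ∈ C := C.mul_mem (hC.conj_mem c hc m) (C.inv_mem hc)
    have h3 : m * c * m⁻¹ * c⁻¹ ∈ M := by
      have : m * c * m⁻¹ * c⁻¹ = m * (c * m⁻¹ * c⁻¹) := by group
      rw [this]
      exact M.mul_mem hm (hM.conj_mem _ (M.inv_mem hm) c)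
    have h4 : (⟨_, h3⟩ : M) ∈ C.subgroupOf M := mem_subgroupOf.mpr h2
    rw [h, mem_bot] at h4
    have h5 : m * c * m⁻¹ * c⁻¹ = 1 := congrArg Subtype.val h4
    calc m * c = m * c * m⁻¹ * c⁻¹ * (c * m) := by group
      _ = c * m := by rw [h5, one_mul]
  · exact subgroupOf_eq_top.mp h

/-- the centralizer of `S` covers `M` as soon as it is not contained in `N`, if the normalizer covers `G / N` -/
theorem Data.le_map_centralizer {G : Type*} [Group G] {n : ℕ} {N : Subgroup G} [N.Normal]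
    {M : Subgroup (G ⧸ N)} (D : Data G n N M) {S : Subgroup G} (hS : normalizer (S : Set G) ⊔ N = ⊤) {x : G}
    (hx : x ∈ centralizer (S : Set G)) (hxN : x ∉ N) :
    M ≤ (centralizer (S : Set G)).map (QuotientGroup.mk' N) := by
  apply D.le_of_normal
  · constructor
    intro y hy g
    obtain ⟨c, hc, rfl⟩ := hy
    obtain ⟨g', rfl⟩ := QuotientGroup.mk'_surjective N g
    have hg : g' ∈ normalizer (S : Set G) ⊔ N := by rw [hS]; exact mem_top _
    rw [sup_comm] at hg
    obtain ⟨a, ha, b, hb, rfl⟩ := mem_sup_of_normal_left.mp hg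
    have ha1 : QuotientGroup.mk' N a = 1 := (QuotientGroup.eq_one_iff a).mpr ha
    refine ⟨b * c * b⁻¹, ?_, ?_⟩
    · -- the centralizer is normalised by the normalizer
      rw [SetLike.mem_coe, mem_centralizer_iff]
      intro s hs
      have h1 : b⁻¹ * s * b ∈ S := by
        have := (mem_normalizer_iff.mp ((normalizer (S : Set G)).inv_mem hb) s).mp hs
        simpa using this
      have h2 := mem_centralizer_iff.mp hc _ h1
      calc s * (b * c * b⁻¹) = b * ((b⁻¹ * s * b) * c) * b⁻¹ := by group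
        _ = b * (c * (b⁻¹ * s * b)) * b⁻¹ := by rw [h2]
        _ = b * c * b⁻¹ * s := by group
    · rw [map_mul, map_mul, map_inv, map_mul, ha1, one_mul]
  · intro h
    apply hxN
    have h1 : QuotientGroup.mk' N x ∈ (centralizer (S : Set G)).map (QuotientGroup.mk' N) := ⟨x, hx, rfl⟩
    rw [h, mem_bot] at h1
    exact (QuotientGroup.eq_one_iff x).mp h1

/-- `t ∤ |P|`-part: an element whose order is divisible by `t` and by the primes of `P` -/
theorem exists_order {G : Type*} [Group G] [Finite G] {N : Subgroup G} [N.Normal]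
    {t : ℕ} (ht : t.Prime) {z c : G} (hz : orderOf z = t) (hcz : c * z = z * c) {P : Finset ℕ}
    (hP : ∀ p ∈ P, p.Prime ∧ p ≠ t) (ho : orderOf (QuotientGroup.mk' N c) = ∏ p ∈ P, p) :
    ∃ g : G, ∀ p ∈ insert t P, p.Prime ∧ p ∣ orderOf g := by
  have hco : ∏ p ∈ P, p ∣ orderOf c := by
    rw [← ho]
    exact orderOf_map_dvd _ c
  obtain ⟨j, w, hw, hcw⟩ := Nat.exists_eq_pow_mul_and_not_dvd (orderOf_pos c).ne' t ht.ne_one
  have hc' : orderOf (c ^ t ^ j) = w := by
    rw [orderOf_pow' c (pow_pos ht.pos j).ne', hcw, Nat.gcd_eq_right (Dvd.intro _ rfl),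
      Nat.mul_div_cancel_left _ (pow_pos ht.pos j)]
  have hcop : (orderOf (c ^ t ^ j)).Coprime (orderOf z) := by
    rw [hc', hz, Nat.coprime_comm]
    exact (ht.coprime_iff_not_dvd).2 hw
  have hcomm : Commute (c ^ t ^ j) z := Commute.pow_left hcz _
  refine ⟨c ^ t ^ j * z, fun p hp => ?_⟩
  rw [hcomm.orderOf_mul_eq_mul_orderOf_of_coprime hcop, hc', hz]
  rcases Finset.mem_insert.mp hp with rfl | hp
  · exact ⟨ht, Nat.dvd_mul_left _ _⟩
  · obtain ⟨h1, h2⟩ := hP p hp
    refine ⟨h1, ?_⟩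
    apply Dvd.dvd.mul_right
    have h3 : p ∣ t ^ j * w := by
      rw [← hcw]
      exact (Finset.dvd_prod_of_mem (fun p : ℕ => p) hp).trans hco
    rcases h1.dvd_mul.mp h3 with h4 | h4
    · exact absurd ((Nat.prime_dvd_prime_iff_eq h1 ht).mp (h1.dvd_of_dvd_pow h4)) h2
    · exact h4

/-- the sum of the primes is at most `n` -/
theorem sum_le {G : Type*} [Group G] [Finite G] {n : ℕ} {N : Subgroup G} [N.Normal]
    {M : Subgroup (G ⧸ N)} (hspec : ∀ g : G, orderOf g ∈ Set.range (orderOf : Equiv.Perm (Fin n) → ℕ))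
    {m t : ℕ} (e : M ≃* alternatingGroup (Fin m)) (ht : t.Prime) {z : G} (hz : orderOf z = t)
    (hM : M ≤ (centralizer ({z} : Set G)).map (QuotientGroup.mk' N)) {P : Finset ℕ}
    (hP : ∀ p ∈ P, p.Prime ∧ p ≠ 2 ∧ p ≠ t) (hs : ∑ p ∈ P, p ≤ m) : t + ∑ p ∈ P, p ≤ n := by
  obtain ⟨y, hy⟩ := PermOrd.exists_order_prod (fun p hp => ⟨(hP p hp).1, (hP p hp).2.1⟩) hs
  have h1 : orderOf ((e.symm y : M) : G ⧸ N) = ∏ p ∈ P, p := by
    rw [Subgroup.orderOf_coe, ← hy]
    exact e.symm.orderOf_eq y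
  obtain ⟨c, hc, hcy⟩ := hM (e.symm y).2
  have hcz : c * z = z * c := (mem_centralizer_iff.mp hc z rfl).symm
  obtain ⟨g, hg⟩ := exists_order (N := N) ht hz hcz (P := P) (fun p hp => ⟨(hP p hp).1, (hP p hp).2.2⟩)
    (by rw [hcy, h1])
  obtain ⟨σ, hσ⟩ := hspec g
  have h2 := PermOrd.sum_le_of_dvd_order σ (P := insert t P) (fun p hp => by rw [hσ]; exact hg p hp)
  rwa [Finset.sum_insert (fun h => (hP t h).2.2 rfl)] at h2

end Cfsg.Agent.H357.Reduce
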