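import Mathlib
import Cfsg.Agent.H357.Cover

/-!
# Coprime elements centralizing small `t`-groups (helper357)
-/

set_option autoImplicit false

namespace Cfsg.Agent.H357.Reduce

open Subgroup Cfsg.Agent.H363.Frat

theorem exists_centralizing {G : Type*} [Group G] [Finite G] {q t a : ℕ} (hq : q.Prime) (ht : t.Prime)
    (htq : t ≠ q) {S Q : Subgroup G} (hqQ : q ∣ Nat.card Q) (hcard : Nat.card S = t ^ a)
    (hQS : Q ≤ normalizer (S : Set G)) (hno : ∀ c, 1 ≤ c → c ≤ a → ¬ q ∣ t ^ c - 1) :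
    ∃ x ∈ centralizer (S : Set G), orderOf x = q := by
  have : Fact q.Prime := ⟨hq⟩
  obtain ⟨x, hx⟩ := exists_prime_orderOf_dvd_card' q hqQ
  have hx' : orderOf (x : G) = q := by rw [Subgroup.orderOf_coe, hx]
  refine ⟨x, ?_, hx'⟩
  have hxn : (x : G) ∈ normalizer (S : Set G) := hQS x.2
  have hA : IsPGroup q (zpowers (x : G)) := by
    apply IsPGroup.of_card (n := 1)
    rw [Nat.card_zpowers, hx', pow_one]
  have hn : ∀ a : zpowers (x : G), ∀ v ∈ S, (a : G) * v * (a : G)⁻¹ ∈ S := fun a v hv =>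
    (mem_normalizer_iff.mp ((zpowers_le.mpr hxn) a.2) v).mp hv
  let _act : MulAction (zpowers (x : G)) S :=
    { smul := fun a y => ⟨(a : G) * y.1 * (a : G)⁻¹, hn a _ y.2⟩
      one_smul := fun y => by
        apply Subtype.ext
        change ((1 : zpowers (x : G)) : G) * y.1 * ((1 : zpowers (x : G)) : G)⁻¹ = y.1
        simp
      mul_smul := fun a b y => by
        apply Subtype.ext
        change ((a * b : zpowers (x : G)) : G) * y.1 * ((a * b : zpowers (x : G)) : G)⁻¹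
          = (a : G) * ((b : G) * y.1 * (b : G)⁻¹) * (a : G)⁻¹
        rw [Subgroup.coe_mul]; group }
  have h1 := hA.card_modEq_card_fixedPoints S
  -- the fixed points
  set F : Subgroup G := S ⊓ centralizer ({(x : G)} : Set G) with hF
  have h2 : Nat.card (MulAction.fixedPoints (zpowers (x : G)) S) = Nat.card F := by
    apply Nat.card_congr
    refine ⟨fun y => ⟨y.1.1, mem_inf.mpr ⟨y.1.2, ?_⟩⟩, fun y => ⟨⟨y.1, (mem_inf.mp y.2).1⟩, ?_⟩, fun _ => rfl, fun _ => rfl⟩
    · rw [mem_centralizer_iff]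
      rintro _ rfl
      have h3 := congrArg Subtype.val (y.2 ⟨x, mem_zpowers _⟩)
      change (x : G) * y.1.1 * (x : G)⁻¹ = y.1.1 at h3
      calc (x : G) * y.1.1 = ((x : G) * y.1.1 * (x : G)⁻¹) * x := by group
        _ = y.1.1 * x := by rw [h3]
    · rintro ⟨a, ha⟩
      apply Subtype.ext
      change a * y.1 * a⁻¹ = y.1
      have h3 : Commute (x : G) y.1 := mem_centralizer_iff.mp (mem_inf.mp y.2).2 _ rfl
      obtain ⟨k, rfl⟩ := mem_zpowers_iff.mp ha
      have h4 : (x : G) ^ k * y.1 = y.1 * (x : G) ^ k := (h3.zpow_left k).eq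
      rw [h4]
      group
  rw [h2, hcard] at h1
  have hFS : Nat.card F ∣ t ^ a := by
    rw [← hcard]
    exact Subgroup.card_dvd_of_le inf_le_left
  obtain ⟨b, hb, hFb⟩ := (Nat.dvd_prime_pow ht).mp hFS
  rw [hFb] at h1
  rcases Nat.lt_or_ge b a with hlt | hge
  · exfalso
    have h3 : q ∣ t ^ a - t ^ b := (Nat.modEq_iff_dvd' (Nat.pow_le_pow_right ht.pos hb)).mp h1.symm
    have h4 : t ^ a - t ^ b = t ^ b * (t ^ (a - b) - 1) := by
      rw [Nat.mul_sub, mul_one, ← pow_add, Nat.add_sub_cancel' hb]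
    rw [h4] at h3
    rcases hq.dvd_mul.mp h3 with h5 | h5
    · exact htq ((Nat.prime_dvd_prime_iff_eq hq ht).mp (hq.dvd_of_dvd_pow h5)).symm
    · exact hno (a - b) (by omega) (by omega) h5
  · have hba : b = a := by omega
    have h3 : F = S := by
      apply Subgroup.eq_of_le_of_card_ge inf_le_left
      rw [hcard, hFb, hba]
    rw [mem_centralizer_iff]
    intro s hs
    have h4 : s ∈ F := by rw [h3]; exact hs
    exact (mem_centralizer_iff.mp (mem_inf.mp h4).2 _ rfl).symm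

/-- `t ^ c - 1` is not divisible by a prime `q > n / 2` if `t` is odd and `t ^ c ≤ n` -/
theorem not_dvd_odd {n q t c : ℕ} (hq : q.Prime) (ht : t.Prime) (ht2 : t ≠ 2) (hc : 1 ≤ c) (h : t ^ c ≤ n)
    (hqn : n < 2 * q) (hn : 11 ≤ n) : ¬ q ∣ t ^ c - 1 := by
  rintro ⟨d, hd⟩
  have h1 : t ≤ t ^ c := Nat.le_self_pow (by omega) t
  have h2 := ht.two_le
  have hd2 : d < 2 := by
    by_contra hlt
    have : q * 2 ≤ q * d := Nat.mul_le_mul_left q (by omega)
    omega
  have hd0 : d ≠ 0 := by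
    rintro rfl
    omega
  have hd1 : d = 1 := by omega
  subst hd1
  obtain ⟨x, hx⟩ := (ht.odd_of_ne_two ht2).pow (n := c)
  obtain ⟨y, hy⟩ := hq.odd_of_ne_two (by omega)
  omega

end Cfsg.Agent.H357.Reduce
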