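import Mathlib
import Cfsg.Agent.H357.Centr
import Cfsg.Agent.H357.Syl
import Cfsg.Agent.H357.Large
import Cfsg.Agent.StandardComponent.AltAut

/-!
# The degree (helper357)

`final` : if the simple section is alternating of degree `m` then `m = n` and `G` is `A_n` or `S_n`.
-/

set_option autoImplicit false

namespace Cfsg.Agent.H357.Reduce

open Subgroup Cfsg.Agent.H363.Frat

/-! ### arithmetic -/

theorem fact_const {t m : ℕ} : ∀ d : ℕ, (∀ j, m < j → j ≤ m + d → ¬ t ∣ j) →
    (m + d).factorial.factorization t = m.factorial.factorization t := by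
  intro d
  induction d with
  | zero => intro _; rfl
  | succ d ih =>
    intro h
    rw [← add_assoc, Nat.factorial_succ, Nat.factorization_mul (by omega) (Nat.factorial_ne_zero _),
      Finsupp.add_apply, ih (fun j h1 h2 => h j h1 (by omega)),
      Nat.factorization_eq_zero_of_not_dvd (h (m + d + 1) (by omega) (by omega)), zero_add]

/-- `t > n - m` prime dividing `i`, `m < i ≤ n` -/
theorem fact_one {t m n i : ℕ} (h1 : n - m < t) (h2 : m < i) (h3 : i ≤ n) (h4 : t ∣ i) :
    n.factorial.factorization t = i.factorization t + m.factorial.factorization t := by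
  have hnd : ∀ j, m < j → j ≤ n → j ≠ i → ¬ t ∣ j := by
    intro j hj1 hj2 hji hd
    rcases Nat.lt_or_gt_of_ne hji with h | h
    · have := Nat.le_of_dvd (by omega) (Nat.dvd_sub h4 hd)
      omega
    · have := Nat.le_of_dvd (by omega) (Nat.dvd_sub hd h4)
      omega
  obtain ⟨d, rfl⟩ : ∃ d, i = m + d + 1 := ⟨i - m - 1, by omega⟩
  obtain ⟨d', rfl⟩ : ∃ d', n = m + d + 1 + d' := ⟨n - (m + d + 1), by omega⟩
  rw [fact_const d' (fun j hj1 hj2 => hnd j (by omega) hj2 (by omega)), Nat.factorial_succ,
    Nat.factorization_mul (by omega) (Nat.factorial_ne_zero _), Finsupp.add_apply,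
    fact_const d (fun j hj1 hj2 => hnd j hj1 (by omega) (by omega))]

theorem not_dvd_two {n q b c : ℕ} (hn : n = 2 ^ b) (hn13 : 13 ≤ n) (h1 : 2 * n < 3 * q) (h2 : q ≤ n)
    (h3 : q ≠ n - 1) (hc : 1 ≤ c) (hcb : c ≤ b + 1) : ¬ q ∣ 2 ^ c - 1 := by
  rintro ⟨d, hd⟩
  have h4 : 2 ≤ 2 ^ c := by
    calc 2 = 2 ^ 1 := rfl
      _ ≤ 2 ^ c := Nat.pow_le_pow_right (by norm_num) hc
  have h5 : 2 ^ c ≤ 2 * n := by
    rw [hn, ← pow_succ']
    exact Nat.pow_le_pow_right (by norm_num) hcb
  have hd0 : d ≠ 0 := by
    rintro rfl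
    omega
  have hd3 : d < 3 := by
    by_contra hlt
    have : q * 3 ≤ q * d := Nat.mul_le_mul_left q (by omega)
    omega
  have hcpos : 2 ^ c = 2 * 2 ^ (c - 1) := by
    rw [← pow_succ', Nat.sub_add_cancel hc]
  have hd1 : d = 1 := by
    have : d ≠ 2 := by
      rintro rfl
      omega
    omega
  subst hd1
  rw [mul_one] at hd
  -- `2 ^ c = q + 1`, `n / 2 < q ≤ n`
  have h6 : 2 ^ c ≤ 2 ^ b := by
    apply Nat.pow_le_pow_right (by norm_num)
    by_contra hlt
    have hcb' : c = b + 1 := by omega
    rw [hcb', pow_succ', ← hn] at hd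
    omega
  have h7 : 2 ^ b < 2 ^ (c + 1) := by
    rw [pow_succ, ← hn]
    omega
  have h8 := (Nat.pow_le_pow_iff_right (by norm_num : 1 < 2)).1 h6
  have h9 := (Nat.pow_lt_pow_iff_right (by norm_num : 1 < 2)).1 h7
  have h10 : c = b := by omega
  rw [h10, ← hn] at hd
  omega

theorem exists_q {n b : ℕ} (hn : n = 2 ^ b) (hn13 : 13 ≤ n) :
    ∃ q : ℕ, q.Prime ∧ 2 * n < 3 * q ∧ q ≤ n ∧ q ≠ n - 1 := by
  rcases Nat.lt_or_ge n 41 with h | h
  · have hb : b < 6 := by
      by_contra hlt
      have : 2 ^ 6 ≤ 2 ^ b := Nat.pow_le_pow_right (by norm_num) (by omega)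
      omega
    interval_cases b
    · omega
    · omega
    · omega
    · omega
    · exact ⟨13, by norm_num, by omega, by omega, by omega⟩
    · exact ⟨29, by norm_num, by omega, by omega, by omega⟩
  · obtain ⟨r, s, hr, hs, h1, h2, h3⟩ := NT.two_primes h
    refine ⟨r, hr, by omega, by omega, ?_⟩
    intro hrn
    obtain ⟨x, hx⟩ := hr.odd_of_ne_two (by omega)
    obtain ⟨y, hy⟩ := hs.odd_of_ne_two (by omega)
    omega

theorem rep_two {n : ℕ} (hn : 13 ≤ n) : NT.Rep n 2 := by
  rcases Nat.lt_or_ge n 28 with h | h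
  · have key : ∀ l : List ℕ, NT.incP 0 l = true → l.sum = n → 2 ∉ l → NT.Rep n 2 := fun l h1 h2 h3 =>
      NT.rep_of_list h1 h2 h3
    interval_cases n
    · exact key [13] (by decide) rfl (by decide)
    · exact key [3, 11] (by decide) rfl (by decide)
    · exact key [3, 5, 7] (by decide) rfl (by decide)
    · exact key [3, 13] (by decide) rfl (by decide)
    · exact key [17] (by decide) rfl (by decide)
    · exact key [5, 13] (by decide) rfl (by decide)
    · exact key [19] (by decide) rfl (by decide)
    · exact key [3, 17] (by decide) rfl (by decide)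
    · exact key [3, 5, 13] (by decide) rfl (by decide)
    · exact key [3, 19] (by decide) rfl (by decide)
    · exact key [23] (by decide) rfl (by decide)
    · exact key [5, 19] (by decide) rfl (by decide)
    · exact key [3, 5, 17] (by decide) rfl (by decide)
    · exact key [3, 23] (by decide) rfl (by decide)
    · exact key [3, 7, 17] (by decide) rfl (by decide)
  · exact NT.exists_rep h 2

/-! ### groups -/

/-- **Frattini** with the normalizer -/
theorem exists_normalizing' {G : Type*} [Group G] [Finite G] {p s : ℕ} (hp : p.Prime) (hs : s.Prime)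
    (N : Subgroup G) [N.Normal] (hk : p ∣ N.index) :
    ∃ S Q : Subgroup G, S ≤ N ∧ normalizer (S : Set G) ⊔ N = ⊤ ∧
      Nat.card S = s ^ (Nat.card N).factorization s ∧ p ∣ Nat.card Q ∧ Q ≤ normalizer (S : Set G) := by
  have : Fact p.Prime := ⟨hp⟩
  have : Fact s.Prime := ⟨hs⟩
  let P : Sylow s N := default
  have hSN : (P : Subgroup N).map N.subtype ≤ N := by
    rintro _ ⟨x, _, rfl⟩
    exact x.2
  have hcard : Nat.card ((P : Subgroup N).map N.subtype) = s ^ (Nat.card N).factorization s := by
    rw [Nat.card_congr ((P : Subgroup N).equivMapOfInjective N.subtype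
      N.subtype_injective).symm.toEquiv]
    exact P.card_eq_multiplicity
  have hfrat : normalizer (((P : Subgroup N).map N.subtype : Subgroup G) : Set G) ⊔ N = ⊤ :=
    Sylow.normalizer_sup_eq_top P
  refine ⟨(P : Subgroup N).map N.subtype, normalizer (((P : Subgroup N).map N.subtype : Subgroup G) : Set G),
    hSN, hfrat, hcard, ?_, le_rfl⟩
  have h1 : N.relIndex (normalizer (((P : Subgroup N).map N.subtype : Subgroup G) : Set G)) = N.index := by
    rw [← relIndex_sup_right, hfrat, relIndex_top_right]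
  have h2 := relIndex_dvd_card N (normalizer (((P : Subgroup N).map N.subtype : Subgroup G) : Set G))
  rw [h1] at h2
  exact hk.trans h2

/-- `G / N` acts faithfully on `m` letters -/
theorem Data.exists_hom {G : Type*} [Group G] [Finite G] {n : ℕ} {N : Subgroup G} [N.Normal]
    {M : Subgroup (G ⧸ N)} (D : Data G n N M) {m : ℕ} (hm : 7 ≤ m) (e : M ≃* alternatingGroup (Fin m)) :
    ∃ Θ : (G ⧸ N) →* Equiv.Perm (Fin m), Function.Injective Θ := by
  obtain ⟨ψ, hψ⟩ := Cfsg.Agent.StandardComponent.AltAut.exists_autHom m hm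
  have hM := D.normal
  refine ⟨ψ.comp ((MulAut.congr e).toMonoidHom.comp (MulAut.conjNormal : (G ⧸ N) →* MulAut M)), ?_⟩
  rw [injective_iff_map_eq_one]
  intro x hx
  have h1 : (MulAut.congr e) (MulAut.conjNormal x) = 1 := by
    ext y : 2
    rw [hψ]
    have hx' : ψ ((MulAut.congr e) (MulAut.conjNormal x)) = 1 := hx
    rw [hx']
    simp
  have h2 : (MulAut.conjNormal x : MulAut M) = 1 := (MulAut.congr e).injective (by rw [h1, map_one])
  have h3 : x ∈ centralizer (M : Set (G ⧸ N)) := by
    rw [mem_centralizer_iff]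
    intro y hy
    have h4 := congrArg (fun f : MulAut M => ((f ⟨y, hy⟩ : M) : G ⧸ N)) h2
    simp only [MulAut.conjNormal_apply, MulAut.one_apply] at h4
    calc y * x = x * y * x⁻¹ * x := by rw [h4]
      _ = x * y := by group
  rw [D.cent, mem_bot] at h3
  exact h3

/-- the hypotheses of the theorem -/
structure Same (G : Type*) [Group G] (n : ℕ) : Prop where
  card : Nat.card G = n.factorial ∨ 2 * Nat.card G = n.factorial
  spec : ∀ g : G, orderOf g ∈ Set.range (orderOf : Equiv.Perm (Fin n) → ℕ)

theorem Same.hyp {G : Type*} [Group G] [Finite G] {n : ℕ} (h : Same G n) : Hyp G n where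
  dvd := by
    rcases h.card with h1 | h1
    · rw [h1]
    · rw [← h1]
      exact Nat.dvd_mul_left _ _
  odd := by
    intro p hp hp2
    rcases h.card with h1 | h1
    · rw [h1]
    · rw [← h1, Nat.factorization_mul (by norm_num) Nat.card_pos.ne', Finsupp.add_apply,
        Nat.Prime.factorization Nat.prime_two, Finsupp.single_apply, if_neg (Ne.symm hp2), zero_add]
  adj := by
    intro r t hr ht hrt hlt g hg
    obtain ⟨σ, hσ⟩ := h.spec g
    exact PermOrd.nonAdj hr ht hrt hlt σ (hσ.trans hg)

/-- the sum of the primes, with a subgroup `S` -/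
theorem Data.false_of_centralizing {G : Type*} [Group G] [Finite G] {n : ℕ} {N : Subgroup G} [N.Normal]
    {M : Subgroup (G ⧸ N)} (D : Data G n N M) (hs : Same G n) {m : ℕ} (e : M ≃* alternatingGroup (Fin m))
    {S : Subgroup G} (hS : normalizer (S : Set G) ⊔ N = ⊤) {x : G} (hx : x ∈ centralizer (S : Set G)) (hxN : x ∉ N)
    {t : ℕ} (ht : t.Prime) (htS : t ∣ Nat.card S) {P : Finset ℕ} (hP : ∀ p ∈ P, p.Prime ∧ p ≠ 2 ∧ p ≠ t)
    (hsum : ∑ p ∈ P, p ≤ m) (hlt : n < t + ∑ p ∈ P, p) : False := by
  have : Fact t.Prime := ⟨ht⟩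
  obtain ⟨z, hz⟩ := exists_prime_orderOf_dvd_card' t htS
  have hM := D.le_map_centralizer hS hx hxN
  have hM' : M ≤ (centralizer ({(z : G)} : Set G)).map (QuotientGroup.mk' N) := by
    refine hM.trans (Subgroup.map_mono ?_)
    apply centralizer_le
    rintro _ rfl
    exact z.2
  have := sum_le hs.spec e ht (z := (z : G)) (by rw [Subgroup.orderOf_coe, hz]) hM' hP hsum
  omega

/-- the case `m < n` -/
theorem Data.false_of_lt {G : Type*} [Group G] [Finite G] {n : ℕ} {N : Subgroup G} [N.Normal]
    {M : Subgroup (G ⧸ N)} (D : Data G n N M) (hs : Same G n) (hn : 13 ≤ n) {m : ℕ}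
    (e : M ≃* alternatingGroup (Fin m)) (hm : 2 * Nat.card M = m.factorial) (hmn : m < n)
    (hgap : ∀ p : ℕ, p.Prime → p ≤ n → p ≤ m) (hidx : M.index ∣ 2) : False := by
  have h := hs.hyp
  obtain ⟨t, i, P, ht, ht2, h1, h2, h3, h4, hP, hsum, hlt⟩ := NT.exists_num hn hmn hgap
  have hcardG := card_eq N M
  -- the case distinction
  have main : ∀ q : ℕ, q.Prime → n < 2 * q → q ≤ n → 1 ≤ (Nat.card N).factorization t →
      (∀ c, 1 ≤ c → c ≤ (Nat.card N).factorization t → ¬ q ∣ t ^ c - 1) → False := by
    intro q hq hq1 hq2 ha hno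
    have htq : t ≠ q := by
      rintro rfl
      obtain ⟨d, rfl⟩ := h4
      have hd2 : d < 2 := by
        by_contra hc
        have : t * 2 ≤ t * d := Nat.mul_le_mul_left t (by omega)
        omega
      have := hgap t ht hq2
      interval_cases d <;> omega
    have hqM := D.primes q hq hq1 hq2
    have hqN : q ∣ N.index := by
      rw [Subgroup.index_eq_card, ← M.card_mul_index]
      exact hqM.mul_right _
    obtain ⟨S, Q, hSN, hfrat, hcard, hqQ, hQS⟩ := exists_normalizing' hq ht N hqN
    obtain ⟨x, hx, hxo⟩ := exists_centralizing hq ht htq hqQ hcard hQS hno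
    have hxN : x ∉ N := by
      intro hxN
      have h5 : orderOf (⟨x, hxN⟩ : N) ∣ Nat.card N := orderOf_dvd_natCard _
      rw [← Subgroup.orderOf_coe] at h5
      change orderOf x ∣ _ at h5
      rw [hxo] at h5
      have h6 := (D.fact_large h (by omega) hq hq1 hq2).2.1
      have h7 := (hq.dvd_iff_one_le_factorization Nat.card_pos.ne').mp h5
      omega
    refine D.false_of_centralizing hs e hfrat hx hxN ht ?_ hP hsum hlt
    rw [hcard]
    exact dvd_pow_self t (by omega)
  by_cases htwo : t = 2
  · subst htwo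
    obtain ⟨hnm, b, hb⟩ : n = m + 1 ∧ ∃ a, n = 2 ^ a := by
      rcases ht2 with h5 | h5
      · exact absurd rfl h5
      · exact h5
    have hfac : n.factorial = n * (2 * Nat.card M) := by
      rw [hm, hnm, Nat.factorial_succ]
    have hMpos : 0 < Nat.card M := Nat.card_pos
    have hNi : Nat.card N * M.index = 2 * n ∨ Nat.card N * M.index = n := by
      rcases hs.card with h5 | h5
      · left
        rw [hfac, hcardG] at h5
        apply Nat.eq_of_mul_eq_mul_right hMpos
        calc Nat.card N * M.index * Nat.card M = Nat.card N * (Nat.card M * M.index) := by ring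
          _ = 2 * n * Nat.card M := by rw [h5]; ring
      · right
        rw [hfac, hcardG] at h5
        have h6 : Nat.card N * (Nat.card M * M.index) = n * Nat.card M := by
          apply Nat.eq_of_mul_eq_mul_left (show 0 < 2 by norm_num)
          rw [h5]
          ring
        apply Nat.eq_of_mul_eq_mul_right hMpos
        calc Nat.card N * M.index * Nat.card M = Nat.card N * (Nat.card M * M.index) := by ring
          _ = n * Nat.card M := h6
    have hb4 : 4 ≤ b := by
      by_contra hlt'
      have : 2 ^ b ≤ 2 ^ 3 := Nat.pow_le_pow_right (by norm_num) (by omega)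
      omega
    have hNpow : ∃ a, 1 ≤ a ∧ a ≤ b + 1 ∧ Nat.card N = 2 ^ a := by
      have hidx' : M.index = 1 ∨ M.index = 2 := (Nat.dvd_prime Nat.prime_two).1 hidx
      have e1 : 2 ^ (b + 1) = 2 * n := by rw [hb, pow_succ']
      have e2 : 2 * 2 ^ (b - 1) = n := by rw [hb, ← pow_succ', Nat.sub_add_cancel (by omega)]
      rcases hidx' with h5 | h5 <;> rcases hNi with h6 | h6 <;> rw [h5] at h6
      · exact ⟨b + 1, by omega, le_rfl, by omega⟩
      · exact ⟨b, by omega, by omega, by omega⟩
      · exact ⟨b, by omega, by omega, by omega⟩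
      · exact ⟨b - 1, by omega, by omega, by omega⟩
    obtain ⟨a, ha1, ha2, ha3⟩ := hNpow
    have hfa : (Nat.card N).factorization 2 = a := by
      rw [ha3, Nat.Prime.factorization_pow Nat.prime_two]
      simp
    obtain ⟨q, hq, hq1, hq2, hq3⟩ := exists_q hb hn
    refine main q hq (by omega) hq2 (by omega) fun c hc1 hc2 => ?_
    rw [hfa] at hc2
    exact not_dvd_two hb hn hq1 hq2 hq3 hc1 (by omega)
  · have h5 := fact_one h1 h2 h3 h4
    have h6 := h.odd t ht htwo
    have h7 := D.fact_add t
    have h8 : M.index.factorization t = 0 := by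
      apply Nat.factorization_eq_zero_of_not_dvd
      intro hd
      exact htwo ((Nat.prime_dvd_prime_iff_eq ht Nat.prime_two).mp (hd.trans hidx))
    have h9 : m.factorial.factorization t = (Nat.card M).factorization t := by
      rw [← hm, Nat.factorization_mul (by norm_num) Nat.card_pos.ne', Finsupp.add_apply,
        Nat.Prime.factorization Nat.prime_two, Finsupp.single_apply, if_neg (Ne.symm htwo), zero_add]
    have h10 : (Nat.card N).factorization t = i.factorization t := by omega
    have h11 : 1 ≤ i.factorization t := (ht.dvd_iff_one_le_factorization (by omega)).mp h4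
    have h12 : t ^ i.factorization t ≤ n :=
      (Nat.le_of_dvd (by omega) (Nat.ordProj_dvd i t)).trans h3
    obtain ⟨q, s, hq, -, hq1, hq2, hq3⟩ := Cfsg.Agent.H363.TwoPrimes.exists_two_primes' n (by omega)
    refine main q hq hq1 (by omega) (by omega) fun c hc1 hc2 => ?_
    rw [h10] at hc2
    exact not_dvd_odd hq ht htwo hc1 ((Nat.pow_le_pow_right ht.pos hc2).trans h12) hq1 (by omega)

/-- `N` trivial, `M = G / N` -/
noncomputable def equivOf {G : Type*} [Group G] (N : Subgroup G) [N.Normal] (hN : N = ⊥) : G ≃* G ⧸ N :=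
  MulEquiv.ofBijective (QuotientGroup.mk' N) ⟨by
    rw [← MonoidHom.ker_eq_bot_iff, QuotientGroup.ker_mk', hN], QuotientGroup.mk'_surjective N⟩

/-- the case `m = n` -/
theorem Data.final_eq {G : Type*} [Group G] [Finite G] {n : ℕ} {N : Subgroup G} [N.Normal]
    {M : Subgroup (G ⧸ N)} (D : Data G n N M) (hs : Same G n)
    (e : M ≃* alternatingGroup (Fin n)) (hm : 2 * Nat.card M = n.factorial)
    (hrep : ∃ P : Finset ℕ, (∀ p ∈ P, p.Prime ∧ p ≠ 2) ∧ ∑ p ∈ P, p ≤ n ∧ n < 2 + ∑ p ∈ P, p)
    (hΘ : Nat.card G = n.factorial → ∃ Θ : (G ⧸ N) →* Equiv.Perm (Fin n), Function.Injective Θ) :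
    Nonempty (G ≃* Equiv.Perm (Fin n)) ∨ Nonempty (G ≃* alternatingGroup (Fin n)) := by
  have hcardG := card_eq N M
  have hMpos : 0 < Nat.card M := Nat.card_pos
  have hbot : Nat.card N = 1 → N = ⊥ := fun h1 => Subgroup.card_eq_one.mp h1
  rcases hs.card with h1 | h1
  · left
    obtain ⟨Θ, hΘ⟩ := hΘ h1
    have h2 : Nat.card N * M.index = 2 := by
      rw [hcardG, ← hm] at h1
      apply Nat.eq_of_mul_eq_mul_right hMpos
      rw [← h1]
      ring
    have hidx : M.index ∣ 2 := ⟨Nat.card N, by rw [← h2, mul_comm]⟩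
    rcases (Nat.dvd_prime Nat.prime_two).1 hidx with h3 | h3
    · -- `|N| = 2`
      exfalso
      rw [h3, mul_one] at h2
      obtain ⟨P, hP, hsum, hlt⟩ := hrep
      have htop : M = ⊤ := Subgroup.index_eq_one.mp h3
      -- `N` is central
      have hcent : ∀ z ∈ N, ∀ g : G, g * z = z * g := by
        intro z hz g
        by_cases hz1 : z = 1
        · rw [hz1, mul_one, one_mul]
        · have h4 : g * z * g⁻¹ ∈ N := ‹N.Normal›.conj_mem z hz g
          have h5 : g * z * g⁻¹ ≠ 1 := by
            intro h6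
            apply hz1
            have : z = g⁻¹ * (g * z * g⁻¹) * g := by group
            rw [this, h6]
            group
          have h6 : ∀ a ∈ N, a ≠ 1 → a = z := by
            intro a ha ha1
            by_contra hne
            have h7 : ({1, z, a} : Set G) ⊆ N := by
              rintro y (rfl | rfl | rfl)
              · exact one_mem N
              · exact hz
              · exact ha
            have h8 := Set.ncard_le_ncard h7 (Set.toFinite _)
            rw [Set.ncard_eq_three.mpr ⟨1, z, a, Ne.symm hz1, Ne.symm ha1, Ne.symm hne, rfl⟩] at h8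
            have h9 : (N : Set G).ncard = Nat.card N := (Nat.card_coe_set_eq _).symm
            omega
          have h7 := h6 _ h4 h5
          calc g * z = g * z * g⁻¹ * g := by group
            _ = z * g := by rw [h7]
      have : Fact (Nat.Prime 2) := ⟨Nat.prime_two⟩
      obtain ⟨z, hz⟩ := exists_prime_orderOf_dvd_card' 2 (by rw [h2] : 2 ∣ Nat.card N)
      have hMle : M ≤ (centralizer ({(z : G)} : Set G)).map (QuotientGroup.mk' N) := by
        have h4 : centralizer ({(z : G)} : Set G) = ⊤ := by
          rw [eq_top_iff]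
          intro g _
          rw [mem_centralizer_iff]
          rintro _ rfl
          exact (hcent z z.2 g).symm
        rw [h4, ← MonoidHom.range_eq_map, MonoidHom.range_eq_top.mpr (QuotientGroup.mk'_surjective N)]
        exact le_top
      have h5 := sum_le hs.spec e Nat.prime_two (z := (z : G)) (by rw [Subgroup.orderOf_coe, hz]) hMle
        (P := P) (fun p hp => ⟨(hP p hp).1, (hP p hp).2, (hP p hp).2⟩) hsum
      omega
    · -- `|G / N : M| = 2`
      rw [h3] at h2
      have hN1 : Nat.card N = 1 := by omega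
      have hbij : Function.Bijective Θ := by
        rw [Nat.bijective_iff_injective_and_card]
        refine ⟨hΘ, ?_⟩
        rw [Nat.card_eq_fintype_card (α := Equiv.Perm (Fin n)), Fintype.card_perm, Fintype.card_fin,
          ← M.card_mul_index, h3, ← hm, mul_comm]
      exact ⟨(equivOf N (hbot hN1)).trans (MulEquiv.ofBijective Θ hbij)⟩
  · right
    have h2 : Nat.card N * M.index = 1 := by
      rw [hcardG, ← hm] at h1
      have h3 := Nat.eq_of_mul_eq_mul_left (show 0 < 2 by norm_num) h1
      apply Nat.eq_of_mul_eq_mul_right hMpos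
      calc Nat.card N * M.index * Nat.card M = Nat.card N * (Nat.card M * M.index) := by ring
        _ = 1 * Nat.card M := by rw [h3, one_mul]
    have hN1 : Nat.card N = 1 := Nat.eq_one_of_mul_eq_one_right h2
    have hI1 : M.index = 1 := Nat.eq_one_of_mul_eq_one_left h2
    have htop : M = ⊤ := Subgroup.index_eq_one.mp hI1
    have hsub : Function.Bijective M.subtype := by
      refine ⟨M.subtype_injective, ?_⟩
      intro x
      exact ⟨⟨x, by rw [htop]; exact mem_top x⟩, rfl⟩
    exact ⟨(equivOf N (hbot hN1)).trans ((MulEquiv.ofBijective M.subtype hsub).symm.trans e)⟩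

/-- **The degree** -/
theorem Data.final {G : Type*} [Group G] [Finite G] {n : ℕ} {N : Subgroup G} [N.Normal]
    {M : Subgroup (G ⧸ N)} (D : Data G n N M) (hs : Same G n) (hn : 13 ≤ n) {m : ℕ}
    (e : M ≃* alternatingGroup (Fin m)) (hm : 2 * Nat.card M = m.factorial) :
    Nonempty (G ≃* Equiv.Perm (Fin n)) ∨ Nonempty (G ≃* alternatingGroup (Fin n)) := by
  have h := hs.hyp
  have hcardG := card_eq N M
  have hMpos : 0 < Nat.card M := Nat.card_pos
  -- `m ≤ n`
  have hmn : m ≤ n := by
    by_contra hlt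
    have h1 : (n + 1).factorial ∣ m.factorial := Nat.factorial_dvd_factorial (by omega)
    have h2 : m.factorial ∣ 2 * n.factorial := by
      rw [← hm]
      exact Nat.mul_dvd_mul_left 2 (D.card_dvd.trans h.dvd)
    have h3 : (n + 1) * n.factorial ∣ 2 * n.factorial := by
      rw [← Nat.factorial_succ]
      exact h1.trans h2
    have h4 := Nat.le_of_dvd (by norm_num) (Nat.dvd_of_mul_dvd_mul_right n.factorial_pos h3)
    omega
  -- no primes between
  have hgap : ∀ p : ℕ, p.Prime → p ≤ n → p ≤ m := by
    have h1 : ∀ p : ℕ, p.Prime → n < 2 * p → p ≤ n → p ≤ m := by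
      intro p hp h1 h2
      rw [← hp.dvd_factorial, ← hm]
      exact (D.primes p hp h1 h2).mul_left 2
    intro p hp hpn
    rcases Nat.lt_or_ge n (2 * p) with h2 | h2
    · exact h1 p hp h2 hpn
    · obtain ⟨q, s, hq, -, hq1, hq2, hq3⟩ := Cfsg.Agent.H363.TwoPrimes.exists_two_primes' n (by omega)
      have := h1 q hq hq1 (by omega)
      omega
  have hm13 : 13 ≤ m := hgap 13 (by norm_num) hn
  obtain ⟨Θ, hΘ⟩ := D.exists_hom (by omega) e
  have hK : Nat.card (G ⧸ N) ∣ m.factorial := by
    have h1 := Subgroup.card_dvd_of_injective Θ hΘ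
    rwa [Nat.card_eq_fintype_card (α := Equiv.Perm (Fin m)), Fintype.card_perm, Fintype.card_fin] at h1
  have hidx : M.index ∣ 2 := by
    rw [← M.card_mul_index, ← hm, mul_comm 2] at hK
    exact Nat.dvd_of_mul_dvd_mul_left hMpos hK
  rcases Nat.lt_or_ge m n with hlt | hge
  · exact (D.false_of_lt hs hn e hm hlt hgap hidx).elim
  · have hmn' : m = n := by omega
    subst hmn'
    obtain ⟨P, hP, hsum⟩ := rep_two hn
    exact D.final_eq hs e hm ⟨P, fun p hp => ⟨(hP p hp).1, (hP p hp).2.1⟩, hsum.le, by omega⟩ fun _ => ⟨Θ, hΘ⟩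

end Cfsg.Agent.H357.Reduce
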