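import Mathlib
import Cfsg.Agent.H357.Cover
import Cfsg.Agent.H357.Large

/-!
# The simple section containing a prime (helper357)

`exists_section` : a prime `p` divides `|G|` exactly once: a simple normal subgroup `M` of some quotient `G / N`
contains `p`. For a prime `t` not adjacent to `p` the `t`-part of `|N|` and of `|G / N : M|` are restricted.
-/

set_option autoImplicit false

namespace Cfsg.Agent.H357.Reduce

open Subgroup Cfsg.Agent.H363.Frat Cfsg.Agent.H363.AltPrimes

/-- a simple section containing `p` -/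
structure Sec (G : Type*) [Group G] (p : ℕ) (N : Subgroup G) [N.Normal] (M : Subgroup (G ⧸ N)) : Prop where
  normal : M.Normal
  simple : IsSimpleGroup M
  notN : ¬ p ∣ Nat.card N
  dvdM : p ∣ Nat.card M
  sqM : ¬ p ^ 2 ∣ Nat.card M
  cent : (¬ ∀ a b : M, a * b = b * a) → centralizer (M : Set (G ⧸ N)) = ⊥

theorem exists_section {G : Type*} [Group G] [Finite G] {p : ℕ} (hp : p.Prime) (hpG : p ∣ Nat.card G)
    (hp2 : ¬ p ^ 2 ∣ Nat.card G) : ∃ (N : Subgroup G) (_ : N.Normal) (M : Subgroup (G ⧸ N)), Sec G p N M := by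
  -- a maximal normal `p'`-subgroup
  obtain ⟨N, ⟨hNn, hNp⟩, hNmax⟩ : ∃ N : Subgroup G, (N.Normal ∧ ¬ p ∣ Nat.card N) ∧
      ∀ L : Subgroup G, (L.Normal ∧ ¬ p ∣ Nat.card L) → N ≤ L → L = N := by
    have hfin : {L : Subgroup G | L.Normal ∧ ¬ p ∣ Nat.card L}.Finite := Set.toFinite _
    obtain ⟨N, hN⟩ := hfin.exists_maximal ⟨⊥, Subgroup.normal_bot, by
      rw [Subgroup.card_bot]; exact fun h => hp.one_lt.ne' (Nat.dvd_one.mp h)⟩
    exact ⟨N, hN.1, fun L hL hNL => le_antisymm (hN.2 hL hNL) hNL⟩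
  have hpidx : p ∣ N.index := by
    have h1 := N.card_mul_index
    rw [← h1] at hpG
    rcases hp.dvd_mul.mp hpG with h | h
    · exact absurd h hNp
    · exact h
  -- a normal subgroup of `G / N` which is not trivial has order divisible by `p`
  have hquot : ∀ M : Subgroup (G ⧸ N), M.Normal → M ≠ ⊥ → p ∣ Nat.card M := by
    intro M hMn hM0
    have hHn : (M.comap (QuotientGroup.mk' N)).Normal := hMn.comap _
    have hNH : N ≤ M.comap (QuotientGroup.mk' N) := by
      intro x hx
      rw [mem_comap]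
      have : QuotientGroup.mk' N x = 1 := (QuotientGroup.eq_one_iff x).mpr hx
      rw [this]
      exact one_mem _
    have hHN : M.comap (QuotientGroup.mk' N) ≠ N := by
      intro h
      apply hM0
      rw [eq_bot_iff]
      intro y hy
      obtain ⟨x, rfl⟩ := QuotientGroup.mk'_surjective N y
      have : x ∈ M.comap (QuotientGroup.mk' N) := hy
      rw [h] at this
      exact Subgroup.mem_bot.mpr ((QuotientGroup.eq_one_iff x).mpr this)
    have hpH : p ∣ Nat.card (M.comap (QuotientGroup.mk' N)) := by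
      by_contra h
      exact hHN (hNmax _ ⟨hHn, h⟩ hNH)
    have h1 : Nat.card (M.comap (QuotientGroup.mk' N)) = Nat.card N * Nat.card M := by
      have h2 := (M.comap (QuotientGroup.mk' N)).card_mul_index
      have h3 : (M.comap (QuotientGroup.mk' N)).index = M.index :=
        M.index_comap_of_surjective (QuotientGroup.mk'_surjective N)
      rw [h3, card_eq N M, ← mul_assoc] at h2
      exact Nat.eq_of_mul_eq_mul_right (Nat.pos_of_ne_zero M.index_ne_zero_of_finite) h2
    rw [h1] at hpH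
    rcases hp.dvd_mul.mp hpH with h | h
    · exact absurd h hNp
    · exact h
  -- a minimal normal subgroup of `G / N`
  obtain ⟨M, hMn, hM0, hMmin⟩ : ∃ M : Subgroup (G ⧸ N), M.Normal ∧ M ≠ ⊥ ∧
      ∀ L : Subgroup (G ⧸ N), L.Normal → L ≤ M → L = ⊥ ∨ L = M := by
    have hfin : {L : Subgroup (G ⧸ N) | L.Normal ∧ L ≠ ⊥}.Finite := Set.toFinite _
    obtain ⟨M, hM⟩ := hfin.exists_minimal ⟨⊤, Subgroup.normal_top, by
      intro h
      have h2 : Nat.card (G ⧸ N) = 1 := by
        have := Subgroup.card_top (G := G ⧸ N)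
        rw [h, Subgroup.card_bot] at this
        exact this.symm
      rw [← Subgroup.index_eq_card] at h2
      rw [h2] at hpidx
      exact hp.one_lt.ne' (Nat.dvd_one.mp hpidx)⟩
    refine ⟨M, hM.1.1, hM.1.2, fun L hL hLM => ?_⟩
    by_cases h : L = ⊥
    · exact Or.inl h
    · exact Or.inr (le_antisymm hLM (hM.2 ⟨hL, h⟩ hLM))
  have hpM : p ∣ Nat.card M := hquot M hMn hM0
  have hMG : Nat.card M * M.index ∣ Nat.card G := by
    rw [card_eq N M]
    exact Nat.dvd_mul_left _ _
  have hp2M : ¬ p ^ 2 ∣ Nat.card M := fun h => hp2 ((h.trans (Nat.dvd_mul_right _ _)).trans hMG)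
  refine ⟨N, hNn, M, ⟨hMn, isSimple_of_minimal M hMmin hp hpM hp2M, hNp, hpM, hp2M, fun hnonab => ?_⟩⟩
  -- the centralizer
  by_contra hC
  have hCn : (centralizer (M : Set (G ⧸ N))).Normal := Subgroup.normal_centralizer
  have hpC := hquot _ hCn hC
  have hdisj : Disjoint (centralizer (M : Set (G ⧸ N))) M := by
    rw [disjoint_iff]
    rcases hMmin (centralizer (M : Set (G ⧸ N)) ⊓ M) inferInstance inf_le_right with h1 | h1
    · exact h1
    · exfalso
      apply hnonab
      intro a b
      have hb : (b : G ⧸ N) ∈ centralizer (M : Set (G ⧸ N)) ⊓ M := by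
        rw [h1]
        exact b.2
      apply Subtype.ext
      exact (mem_centralizer_iff.mp (mem_inf.mp hb).1 a a.2)
  have h5 : Nat.card (centralizer (M : Set (G ⧸ N))) * Nat.card M ∣ Nat.card (G ⧸ N) := by
    have h6 : Nat.card (centralizer (M : Set (G ⧸ N))) ∣ Nat.card ((G ⧸ N) ⧸ M) := by
      apply Subgroup.card_dvd_of_injective
        ((QuotientGroup.mk' M).comp (centralizer (M : Set (G ⧸ N))).subtype)
      rw [injective_iff_map_eq_one]
      intro x hx
      have h7 : (x : G ⧸ N) ∈ M := (QuotientGroup.eq_one_iff (x : G ⧸ N)).mp hx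
      have h8 : (x : G ⧸ N) ∈ centralizer (M : Set (G ⧸ N)) ⊓ M := mem_inf.mpr ⟨x.2, h7⟩
      rw [disjoint_iff.mp hdisj] at h8
      exact Subtype.ext (mem_bot.mp h8)
    rw [← Subgroup.index_eq_card] at h6
    rw [← M.index_mul_card]
    exact Nat.mul_dvd_mul_right h6 _
  have h6 : p ^ 2 ∣ Nat.card G := by
    rw [pow_two, ← N.card_mul_index, Subgroup.index_eq_card]
    exact ((Nat.mul_dvd_mul hpC hpM).trans h5).mul_left _
  exact hp2 h6

section

variable {G : Type*} [Group G] [Finite G] {p : ℕ} {N : Subgroup G} [N.Normal] {M : Subgroup (G ⧸ N)}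

/-- `p` divides `|N|_t - 1` -/
theorem Sec.dvd_pow_sub_one (D : Sec G p N M) (hp : p.Prime) {t : ℕ} (ht : t.Prime) (hpt : p ≠ t)
    (h : NonAdj G p t) : p ∣ t ^ (Nat.card N).factorization t - 1 := by
  have hidx : p ^ 1 ∣ N.index := by
    rw [pow_one, Subgroup.index_eq_card, ← M.card_mul_index]
    exact D.dvdM.mul_right _
  have := pow_dvd_of_normal hp ht hpt h N hidx
  rwa [pow_one] at this

/-- the `t`-part of `|G / N : M|` divides `p - 1` -/
theorem Sec.pow_dvd_sub_one (D : Sec G p N M) (hp : p.Prime) {t : ℕ} (ht : t.Prime) (hpt : p ≠ t)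
    (h : NonAdj G p t) : t ^ (M.index).factorization t ∣ p - 1 := by
  have hN := D.normal
  have h4 := pow_dvd_of_normal ht hp (Ne.symm hpt) (h.symm.quotient N) M
    (k := (M.index).factorization t) (Nat.ordProj_dvd _ _)
  have h1 : (Nat.card M).factorization p = 1 := by
    have h2 : 1 ≤ (Nat.card M).factorization p := (hp.dvd_iff_one_le_factorization Nat.card_pos.ne').mp D.dvdM
    have h3 : ¬ 2 ≤ (Nat.card M).factorization p := fun h5 =>
      D.sqM ((hp.pow_dvd_iff_le_factorization Nat.card_pos.ne').mpr h5)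
    omega
  rwa [h1, pow_one] at h4

omit [Finite G] in
theorem card_dvd_card (N : Subgroup G) [N.Normal] (M : Subgroup (G ⧸ N)) : Nat.card M ∣ Nat.card G := by
  rw [card_eq N M]
  exact (Nat.dvd_mul_right _ _).mul_left _

theorem fact_add (N : Subgroup G) [N.Normal] (M : Subgroup (G ⧸ N)) (t : ℕ) : (Nat.card G).factorization t =
    (Nat.card N).factorization t + ((Nat.card M).factorization t + M.index.factorization t) := by
  rw [card_eq N M, Nat.factorization_mul Nat.card_pos.ne'
    (Nat.mul_ne_zero Nat.card_pos.ne' M.index_ne_zero_of_finite),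
    Nat.factorization_mul Nat.card_pos.ne' M.index_ne_zero_of_finite, Finsupp.add_apply, Finsupp.add_apply]

/-- `t ∤ |N|` if `p ∤ t ^ a - 1` for `1 ≤ a ≤ v_t(G)` -/
theorem Sec.fact_N (D : Sec G p N M) (hp : p.Prime) {t : ℕ} (ht : t.Prime) (hpt : p ≠ t)
    (h : NonAdj G p t) (hno : ∀ a, 1 ≤ a → a ≤ (Nat.card G).factorization t → ¬ p ∣ t ^ a - 1) :
    (Nat.card N).factorization t = 0 := by
  by_contra h0
  have h1 := fact_add N M t
  exact hno _ (by omega) (by omega) (D.dvd_pow_sub_one hp ht hpt h)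

/-- `v_t(G) ≤ v_t(M) + c` if `t ^ (c + 1)` does not divide `p - 1` and `p ∤ t ^ a - 1` for `1 ≤ a ≤ v_t(G)` -/
theorem Sec.le_fact (D : Sec G p N M) (hp : p.Prime) {t : ℕ} (ht : t.Prime) (hpt : p ≠ t)
    (h : NonAdj G p t) (hno : ∀ a, 1 ≤ a → a ≤ (Nat.card G).factorization t → ¬ p ∣ t ^ a - 1) {c : ℕ}
    (hc : ¬ t ^ (c + 1) ∣ p - 1) : (Nat.card G).factorization t ≤ (Nat.card M).factorization t + c := by
  have h1 := D.fact_N hp ht hpt h hno
  have h2 := fact_add N M t
  have h3 : M.index.factorization t ≤ c := by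
    by_contra hlt
    exact hc ((pow_dvd_pow t (by omega)).trans (D.pow_dvd_sub_one hp ht hpt h))
  omega

end

end Cfsg.Agent.H357.Reduce
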