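import Mathlib
import Cfsg.Agent.H357.Locate
import Cfsg.Agent.OrdDiv.Main
import Cfsg.Agent.S0252
import Cfsg.Agent.S0253
import Cfsg.Agent.S0254
import Cfsg.Agent.S0256

/-!
# The simple section for `5 ≤ n ≤ 12` (helper357)

`exists_small` : the section is `A_n`, or `n = 8` and it is `A_7` or `PSL(3, 4)`, or `n = 10` and it is the second
Janko group.
-/

set_option autoImplicit false

namespace Cfsg.Agent.H357.Reduce

open Subgroup Cfsg Cfsg.Agent.H363.Frat Cfsg.Agent.OrdDiv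

universe u

section

variable {G : Type*} [Group G] [Finite G] {n p : ℕ} {N : Subgroup G} [N.Normal] {M : Subgroup (G ⧸ N)}

theorem Hyp.fact_le (h : Hyp G n) {t b : ℕ} (ht : t.Prime) (hb : ¬ t ^ (b + 1) ∣ n.factorial) :
    (Nat.card G).factorization t ≤ b := by
  by_contra hlt
  apply hb
  have h1 : t ^ (b + 1) ∣ Nat.card G := (ht.pow_dvd_iff_le_factorization Nat.card_pos.ne').mpr (by omega)
  exact h1.trans h.dvd

omit [Finite G] in
theorem Hyp.le_fact (h : Hyp G n) {t k : ℕ} (ht : t.Prime) (ht2 : t ≠ 2) (hk : t ^ k ∣ n.factorial) :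
    k ≤ (Nat.card G).factorization t := by
  rw [h.odd t ht ht2]
  exact (ht.pow_dvd_iff_le_factorization (Nat.factorial_ne_zero _)).mp hk

theorem Sec.pow_dvd (D : Sec G p N M) (h : Hyp G n) (hp : p.Prime) {t : ℕ} (ht : t.Prime) (ht2 : t ≠ 2)
    (hpt : p ≠ t) (hn : n < p + t) {b k : ℕ} (c : ℕ) (hb : ¬ t ^ (b + 1) ∣ n.factorial)
    (hno : ∀ a, 1 ≤ a → a ≤ b → ¬ p ∣ t ^ a - 1) (hk : t ^ (k + c) ∣ n.factorial) (hc : ¬ t ^ (c + 1) ∣ p - 1) :
    t ^ k ∣ Nat.card M := by
  have h1 := D.le_fact hp ht hpt (h.adj p t hp ht hpt hn)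
    (fun a ha1 ha2 => hno a ha1 (ha2.trans (h.fact_le ht hb))) hc
  have h2 := h.le_fact ht ht2 hk
  exact (ht.pow_dvd_iff_le_factorization Nat.card_pos.ne').mpr (by omega)

omit [Finite G] in
theorem Sec.data (D : Sec G p N M) {a b : ℕ} (ha : a.Prime) (hb : b.Prime) (hab : a ≠ b) (h1 : a ∣ Nat.card M)
    (h2 : b ∣ Nat.card M) (hpr : ∀ q : ℕ, q.Prime → n < 2 * q → q ≤ n → q ∣ Nat.card M) : Data G n N M := by
  have hna : ¬ ∀ a b : M, a * b = b * a := by
    intro hcommM
    have := D.simple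
    let _ : CommGroup M := { (inferInstance : Group M) with mul_comm := hcommM }
    have hprime : (Nat.card M).Prime := IsSimpleGroup.prime_card
    have h1 := (Nat.prime_dvd_prime_iff_eq ha hprime).mp h1
    have h2 := (Nat.prime_dvd_prime_iff_eq hb hprime).mp h2
    omega
  exact ⟨D.normal, D.simple, hna, D.cent hna, hpr⟩

end

/-! ### orders -/

theorem exists_sec {G : Type*} [Group G] [Finite G] {n p : ℕ} (h : Hyp G n) (hp : p.Prime) (hp2 : p ≠ 2)
    (h1 : p ∣ n.factorial) (h2 : ¬ p ^ 2 ∣ n.factorial) :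
    ∃ (N : Subgroup G) (_ : N.Normal) (M : Subgroup (G ⧸ N)), Sec G p N M := by
  apply exists_section hp
  · have := h.le_fact hp hp2 (k := 1) (by rwa [pow_one])
    exact (hp.dvd_iff_one_le_factorization Nat.card_pos.ne').mpr this
  · intro h3
    exact h2 (h3.trans h.dvd)

theorem pr_of {n c m : ℕ} (hn : n ≤ 12) (hc : c ∣ m)
    (h : ∀ q ∈ Finset.range 13, q.Prime → n < 2 * q → q ≤ n → q ∣ c) :
    ∀ q : ℕ, q.Prime → n < 2 * q → q ≤ n → q ∣ m := by
  intro q hq h1 h2
  exact (h q (Finset.mem_range.2 (by omega)) hq h1 h2).trans hc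

section

variable {G : Type*} [Group G] [Finite G]

/-- the section and the order of `M` -/
def Out (G : Type*) [Group G] (n c : ℕ) : Prop :=
  ∃ (N : Subgroup G) (_ : N.Normal) (M : Subgroup (G ⧸ N)), Data G n N M ∧ c ∣ Nat.card M

theorem nums : (3 : ℕ).Prime ∧ (5 : ℕ).Prime ∧ (7 : ℕ).Prime ∧ (11 : ℕ).Prime := by norm_num

theorem out_five (h : Hyp G 5) : Out G 5 15 := by
  obtain ⟨h3, h5, h7, h11⟩ := nums
  obtain ⟨N, hN, M, D⟩ := exists_sec h h5 (by norm_num) (by decide) (by decide)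
  have d3 : 3 ^ 1 ∣ Nat.card M := D.pow_dvd h h5 h3 (by norm_num) (by norm_num) (by norm_num) (b := 1) 0 (by decide)
    (by decide) (by decide) (by decide)
  have hd : 15 ∣ Nat.card M := Nat.Coprime.mul_dvd_of_dvd_of_dvd (by norm_num : Nat.Coprime 3 5) d3 D.dvdM
  refine ⟨N, hN, M, D.data h3 h5 (by norm_num) d3 D.dvdM (pr_of (by norm_num) hd ?_), hd⟩
  decide

theorem out_six (h : Hyp G 6) : Out G 6 45 := by
  obtain ⟨h3, h5, h7, h11⟩ := nums
  obtain ⟨N, hN, M, D⟩ := exists_sec h h5 (by norm_num) (by decide) (by decide)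
  have d3 : 3 ^ 2 ∣ Nat.card M := D.pow_dvd h h5 h3 (by norm_num) (by norm_num) (by norm_num) (b := 2) 0 (by decide)
    (by decide) (by decide) (by decide)
  have hd : 45 ∣ Nat.card M := Nat.Coprime.mul_dvd_of_dvd_of_dvd (by norm_num : Nat.Coprime 9 5) d3 D.dvdM
  refine ⟨N, hN, M, D.data h3 h5 (by norm_num) ((dvd_pow_self 3 (by norm_num)).trans d3) D.dvdM
    (pr_of (by norm_num) hd ?_), hd⟩
  decide

theorem out_seven (h : Hyp G 7) : Out G 7 35 := by
  obtain ⟨h3, h5, h7, h11⟩ := nums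
  obtain ⟨N, hN, M, D⟩ := exists_sec h h7 (by norm_num) (by decide) (by decide)
  have d5 : 5 ^ 1 ∣ Nat.card M := D.pow_dvd h h7 h5 (by norm_num) (by norm_num) (by norm_num) (b := 1) 0 (by decide)
    (by decide) (by decide) (by decide)
  have hd : 35 ∣ Nat.card M := Nat.Coprime.mul_dvd_of_dvd_of_dvd (by norm_num : Nat.Coprime 5 7) d5 D.dvdM
  refine ⟨N, hN, M, D.data h5 h7 (by norm_num) d5 D.dvdM (pr_of (by norm_num) hd ?_), hd⟩
  decide

theorem out_eight (h : Hyp G 8) : Out G 8 35 := by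
  obtain ⟨h3, h5, h7, h11⟩ := nums
  obtain ⟨N, hN, M, D⟩ := exists_sec h h7 (by norm_num) (by decide) (by decide)
  have d5 : 5 ^ 1 ∣ Nat.card M := D.pow_dvd h h7 h5 (by norm_num) (by norm_num) (by norm_num) (b := 1) 0 (by decide)
    (by decide) (by decide) (by decide)
  have hd : 35 ∣ Nat.card M := Nat.Coprime.mul_dvd_of_dvd_of_dvd (by norm_num : Nat.Coprime 5 7) d5 D.dvdM
  refine ⟨N, hN, M, D.data h5 h7 (by norm_num) d5 D.dvdM (pr_of (by norm_num) hd ?_), hd⟩
  decide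

theorem out_nine (h : Hyp G 9) : Out G 9 945 := by
  obtain ⟨h3, h5, h7, h11⟩ := nums
  obtain ⟨N, hN, M, D⟩ := exists_sec h h7 (by norm_num) (by decide) (by decide)
  have d5 : 5 ^ 1 ∣ Nat.card M := D.pow_dvd h h7 h5 (by norm_num) (by norm_num) (by norm_num) (b := 1) 0 (by decide)
    (by decide) (by decide) (by decide)
  have d3 : 3 ^ 3 ∣ Nat.card M := D.pow_dvd h h7 h3 (by norm_num) (by norm_num) (by norm_num) (b := 4) 1 (by decide)
    (by decide) (by decide) (by decide)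
  have h35 : 35 ∣ Nat.card M := Nat.Coprime.mul_dvd_of_dvd_of_dvd (by norm_num : Nat.Coprime 5 7) d5 D.dvdM
  have hd : 945 ∣ Nat.card M := Nat.Coprime.mul_dvd_of_dvd_of_dvd (by norm_num : Nat.Coprime 27 35) d3 h35
  refine ⟨N, hN, M, D.data h5 h7 (by norm_num) d5 D.dvdM (pr_of (by norm_num) hd ?_), hd⟩
  decide

theorem out_ten (h : Hyp G 10) : Out G 10 175 := by
  obtain ⟨h3, h5, h7, h11⟩ := nums
  obtain ⟨N, hN, M, D⟩ := exists_sec h h7 (by norm_num) (by decide) (by decide)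
  have d5 : 5 ^ 2 ∣ Nat.card M := D.pow_dvd h h7 h5 (by norm_num) (by norm_num) (by norm_num) (b := 2) 0 (by decide)
    (by decide) (by decide) (by decide)
  have hd : 175 ∣ Nat.card M := Nat.Coprime.mul_dvd_of_dvd_of_dvd (by norm_num : Nat.Coprime 25 7) d5 D.dvdM
  refine ⟨N, hN, M, D.data h5 h7 (by norm_num) ((dvd_pow_self 5 (by norm_num)).trans d5) D.dvdM
    (pr_of (by norm_num) hd ?_), hd⟩
  decide

theorem out_eleven (h : Hyp G 11) : Out G 11 6237 := by
  obtain ⟨h3, h5, h7, h11⟩ := nums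
  obtain ⟨N, hN, M, D⟩ := exists_sec h h11 (by norm_num) (by decide) (by decide)
  have d7 : 7 ^ 1 ∣ Nat.card M := D.pow_dvd h h11 h7 (by norm_num) (by norm_num) (by norm_num) (b := 1) 0 (by decide)
    (by decide) (by decide) (by decide)
  have d3 : 3 ^ 4 ∣ Nat.card M := D.pow_dvd h h11 h3 (by norm_num) (by norm_num) (by norm_num) (b := 4) 0 (by decide)
    (by decide) (by decide) (by decide)
  have h77 : 77 ∣ Nat.card M := Nat.Coprime.mul_dvd_of_dvd_of_dvd (by norm_num : Nat.Coprime 7 11) d7 D.dvdM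
  have hd : 6237 ∣ Nat.card M := Nat.Coprime.mul_dvd_of_dvd_of_dvd (by norm_num : Nat.Coprime 81 77) d3 h77
  refine ⟨N, hN, M, D.data h7 h11 (by norm_num) d7 D.dvdM (pr_of (by norm_num) hd ?_), hd⟩
  decide

theorem out_twelve (h : Hyp G 12) : ∃ (N : Subgroup G) (_ : N.Normal) (M : Subgroup (G ⧸ N)), Data G 12 N M ∧
    77 ∣ Nat.card M ∧ ((Nat.card M).factorization 3 = 0 ∨ (Nat.card M).factorization 3 = 5) := by
  obtain ⟨h3, h5, h7, h11⟩ := nums
  obtain ⟨N, hN, M, D⟩ := exists_sec h h11 (by norm_num) (by decide) (by decide)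
  have d7 : 7 ^ 1 ∣ Nat.card M := D.pow_dvd h h11 h7 (by norm_num) (by norm_num) (by norm_num) (b := 1) 0 (by decide)
    (by decide) (by decide) (by decide)
  have h77 : 77 ∣ Nat.card M := Nat.Coprime.mul_dvd_of_dvd_of_dvd (by norm_num : Nat.Coprime 7 11) d7 D.dvdM
  refine ⟨N, hN, M, D.data h7 h11 (by norm_num) d7 D.dvdM (pr_of (by norm_num) h77 ?_), h77, ?_⟩
  · decide
  · have e1 := fact_add N M 3
    have e2 := D.dvd_pow_sub_one h11 h3 (by norm_num) (h.adj 11 3 h11 h3 (by norm_num) (by norm_num))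
    have e3 := D.pow_dvd_sub_one h11 h3 (by norm_num) (h.adj 11 3 h11 h3 (by norm_num) (by norm_num))
    have e4 : M.index.factorization 3 = 0 := by
      by_contra h0
      have : 3 ^ 1 ∣ 11 - 1 := (pow_dvd_pow 3 (by omega)).trans e3
      revert this
      decide
    have e5 : (Nat.card G).factorization 3 ≤ 5 := h.fact_le h3 (by decide)
    have e6 : 5 ≤ (Nat.card G).factorization 3 := h.le_fact h3 (by norm_num) (by decide)
    generalize (Nat.card N).factorization 3 = a at *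
    have ha : a ≤ 5 := by omega
    have e7 : a = 0 ∨ a = 5 := by
      interval_cases a
      · left; rfl
      · revert e2; decide
      · revert e2; decide
      · revert e2; decide
      · revert e2; decide
      · right; rfl
    omega

end

/-! ### names -/

theorem real_of (T : OrderTable.{u}) {S : Type u} [Group S] (hk : IsKnownSimple' S)
    (hna : ¬ ∀ a b : S, a * b = b * a) {l : List (ℕ × ℕ)} {n K c : ℕ} {R : List Grp} (hK : K = n.factorial)
    (hv : valid l K = true) (hR : (cands l K).filter (fun g => ordN g % c == 0) = R) (hd : Nat.card S ∣ n.factorial)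
    (hc : c ∣ Nat.card S) : ∃ g ∈ R, Real g S ∧ Nat.card S = ordN g := by
  obtain ⟨g, h1, h2, h3⟩ := exists_good T hk hna hv (by rw [hK]; exact hd)
  refine ⟨g, ?_, h2, h3⟩
  rw [← hR, List.mem_filter]
  refine ⟨h1, ?_⟩
  rw [← h3]
  simpa using Nat.mod_eq_zero_of_dvd hc

theorem chk5 : valid [(2, 3), (3, 1), (5, 1)] 120 = true ∧ (cands [(2, 3), (3, 1), (5, 1)] 120).filter
    (fun g => ordN g % 15 == 0) = [.alt 5, .psl 2 4, .psl 2 5] := by decide +kernel

theorem chk6 : valid [(2, 4), (3, 2), (5, 1)] 720 = true ∧ (cands [(2, 4), (3, 2), (5, 1)] 720).filter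
    (fun g => ordN g % 45 == 0) = [.alt 6, .psl 2 9] := by decide +kernel

theorem chk7 : valid [(2, 4), (3, 2), (5, 1), (7, 1)] 5040 = true ∧
    (cands [(2, 4), (3, 2), (5, 1), (7, 1)] 5040).filter (fun g => ordN g % 35 == 0) = [.alt 7] := by decide +kernel

theorem chk8 : valid [(2, 7), (3, 2), (5, 1), (7, 1)] 40320 = true ∧
    (cands [(2, 7), (3, 2), (5, 1), (7, 1)] 40320).filter (fun g => ordN g % 35 == 0) =
      [.alt 7, .alt 8, .psl 4 2, .psl 3 4] := by decide +kernel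

theorem chk9 : valid [(2, 7), (3, 4), (5, 1), (7, 1)] 362880 = true ∧
    (cands [(2, 7), (3, 4), (5, 1), (7, 1)] 362880).filter (fun g => ordN g % 945 == 0) = [.alt 9] := by
  decide +kernel

theorem chk10 : valid [(2, 8), (3, 4), (5, 2), (7, 1)] 3628800 = true ∧
    (cands [(2, 8), (3, 4), (5, 2), (7, 1)] 3628800).filter (fun g => ordN g % 175 == 0) = [.alt 10, .j2] := by
  decide +kernel

theorem chk11 : valid [(2, 8), (3, 4), (5, 2), (7, 1), (11, 1)] 39916800 = true ∧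
    (cands [(2, 8), (3, 4), (5, 2), (7, 1), (11, 1)] 39916800).filter (fun g => ordN g % 6237 == 0) = [.alt 11] := by
  decide +kernel

theorem chk12 : valid [(2, 10), (3, 5), (5, 2), (7, 1), (11, 1)] 479001600 = true ∧
    (cands [(2, 10), (3, 5), (5, 2), (7, 1), (11, 1)] 479001600).filter (fun g => ordN g % 77 == 0) =
      [.alt 11, .alt 12, .m22] := by decide +kernel

/-- the section for `5 ≤ n ≤ 12` -/
def Small (G : Type u) [Group G] (n : ℕ) (N : Subgroup G) [N.Normal] (M : Subgroup (G ⧸ N)) : Prop :=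
  Data G n N M ∧ (Nonempty (M ≃* alternatingGroup (Fin n)) ∨ (n = 8 ∧ Nonempty (M ≃* alternatingGroup (Fin 7))) ∨
    (n = 8 ∧ Real (.psl 3 4) M ∧ Nat.card M = 20160) ∨ (n = 10 ∧ Spor.IsoJ2 M ∧ Nat.card M = 604800))

theorem exists_small (T : OrderTable.{u}) {G : Type u} [Group G] [Finite G] {n : ℕ} (h : Hyp G n) (hn : 5 ≤ n)
    (hn2 : n ≤ 12) (hcl : ∀ (S : Type u) [Group S] [Finite S] [IsSimpleGroup S], IsKnownSimple' S) :
    ∃ (N : Subgroup G) (_ : N.Normal) (M : Subgroup (G ⧸ N)), Small G n N M := by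
  have hd : ∀ (N : Subgroup G) [N.Normal] (M : Subgroup (G ⧸ N)), Nat.card M ∣ n.factorial := fun N _ M =>
    (card_dvd_card N M).trans h.dvd
  interval_cases n
  · obtain ⟨N, hN, M, D, hc⟩ := out_five h
    have := D.simple
    obtain ⟨g, hg, hr, ho⟩ := real_of T (hcl M) D.nonab (n := 5) (by decide) chk5.1 chk5.2 (hd N M) hc
    refine ⟨N, hN, M, D, Or.inl ?_⟩
    simp only [List.mem_cons, List.not_mem_nil, or_false] at hg
    rcases hg with rfl | rfl | rfl
    · exact hr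
    · obtain ⟨F, _, _, hF, ⟨e⟩⟩ := hr
      obtain ⟨e'⟩ := Cfsg.Agent.S0252.result hF
      exact ⟨e.trans e'⟩
    · obtain ⟨F, _, _, hF, ⟨e⟩⟩ := hr
      obtain ⟨e'⟩ := Cfsg.Agent.S0253.result hF
      exact ⟨e.trans e'⟩
  · obtain ⟨N, hN, M, D, hc⟩ := out_six h
    have := D.simple
    obtain ⟨g, hg, hr, ho⟩ := real_of T (hcl M) D.nonab (n := 6) (by decide) chk6.1 chk6.2 (hd N M) hc
    refine ⟨N, hN, M, D, Or.inl ?_⟩
    simp only [List.mem_cons, List.not_mem_nil, or_false] at hg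
    rcases hg with rfl | rfl
    · exact hr
    · obtain ⟨F, _, _, hF, ⟨e⟩⟩ := hr
      obtain ⟨e'⟩ := Cfsg.Agent.S0254.result hF
      exact ⟨e.trans e'⟩
  · obtain ⟨N, hN, M, D, hc⟩ := out_seven h
    have := D.simple
    obtain ⟨g, hg, hr, ho⟩ := real_of T (hcl M) D.nonab (n := 7) (by decide) chk7.1 chk7.2 (hd N M) hc
    refine ⟨N, hN, M, D, Or.inl ?_⟩
    simp only [List.mem_cons, List.not_mem_nil, or_false] at hg
    subst hg
    exact hr
  · obtain ⟨N, hN, M, D, hc⟩ := out_eight h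
    have := D.simple
    obtain ⟨g, hg, hr, ho⟩ := real_of T (hcl M) D.nonab (n := 8) (by decide) chk8.1 chk8.2 (hd N M) hc
    refine ⟨N, hN, M, D, ?_⟩
    simp only [List.mem_cons, List.not_mem_nil, or_false] at hg
    rcases hg with rfl | rfl | rfl | rfl
    · exact Or.inr (Or.inl ⟨rfl, hr⟩)
    · exact Or.inl hr
    · obtain ⟨F, _, _, hF, ⟨e⟩⟩ := hr
      obtain ⟨e'⟩ := Cfsg.Agent.S0256.result hF
      exact Or.inl ⟨e.trans e'⟩
    · exact Or.inr (Or.inr (Or.inl ⟨rfl, hr, ho.trans (by decide)⟩))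
  · obtain ⟨N, hN, M, D, hc⟩ := out_nine h
    have := D.simple
    obtain ⟨g, hg, hr, ho⟩ := real_of T (hcl M) D.nonab (n := 9) (by decide) chk9.1 chk9.2 (hd N M) hc
    refine ⟨N, hN, M, D, Or.inl ?_⟩
    simp only [List.mem_cons, List.not_mem_nil, or_false] at hg
    subst hg
    exact hr
  · obtain ⟨N, hN, M, D, hc⟩ := out_ten h
    have := D.simple
    obtain ⟨g, hg, hr, ho⟩ := real_of T (hcl M) D.nonab (n := 10) (by decide) chk10.1 chk10.2 (hd N M) hc
    refine ⟨N, hN, M, D, ?_⟩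
    simp only [List.mem_cons, List.not_mem_nil, or_false] at hg
    rcases hg with rfl | rfl
    · exact Or.inl hr
    · exact Or.inr (Or.inr (Or.inr ⟨rfl, hr, ho.trans (by decide)⟩))
  · obtain ⟨N, hN, M, D, hc⟩ := out_eleven h
    have := D.simple
    obtain ⟨g, hg, hr, ho⟩ := real_of T (hcl M) D.nonab (n := 11) (by decide) chk11.1 chk11.2 (hd N M) hc
    refine ⟨N, hN, M, D, Or.inl ?_⟩
    simp only [List.mem_cons, List.not_mem_nil, or_false] at hg
    subst hg
    exact hr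
  · obtain ⟨N, hN, M, D, hc, h3⟩ := out_twelve h
    have := D.simple
    obtain ⟨g, hg, hr, ho⟩ := real_of T (hcl M) D.nonab (n := 12) (by decide) chk12.1 chk12.2 (hd N M) hc
    refine ⟨N, hN, M, D, Or.inl ?_⟩
    have key : ∀ c : ℕ, Nat.card M = c → c ≠ 0 → 3 ∣ c → ¬ 3 ^ 5 ∣ c → False := by
      rintro c rfl hc0 h4 h5
      have h6 := (Nat.prime_three.dvd_iff_one_le_factorization hc0).mp h4
      have h7 : ¬ 5 ≤ (Nat.card M).factorization 3 := fun h8 =>
        h5 ((Nat.prime_three.pow_dvd_iff_le_factorization hc0).mpr h8)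
      omega
    simp only [List.mem_cons, List.not_mem_nil, or_false] at hg
    rcases hg with rfl | rfl | rfl
    · exact (key _ ho (by decide) (by decide) (by decide)).elim
    · exact hr
    · exact (key _ ho (by decide) (by decide) (by decide)).elim

end Cfsg.Agent.H357.Reduce
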