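import Mathlib
import Cfsg.Agent.H357.SmallDeg
import Cfsg.Agent.H357.Final
import Cfsg.Agent.S0819
import Cfsg.Agent.S2066
import Cfsg.Agent.S2119
import Cfsg.Agent.StdAlt.Six.Aut
import Cfsg.Agent.H379.J2Spec

/-!
# The degrees `5 ≤ n ≤ 12` (helper357)
-/

set_option autoImplicit false

namespace Cfsg.Agent.H357.Reduce

open Subgroup Cfsg Cfsg.Agent.H363.Frat Cfsg.Agent.OrdDiv

universe u

/-! ### homomorphisms to the symmetric group -/

theorem Data.conj_injective {G : Type*} [Group G] {n : ℕ} {N : Subgroup G} [N.Normal]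
    {M : Subgroup (G ⧸ N)} (D : Data G n N M) :
    haveI := D.normal
    Function.Injective (MulAut.conjNormal : (G ⧸ N) →* MulAut M) := by
  have hM := D.normal
  rw [injective_iff_map_eq_one]
  intro x h2
  have h3 : x ∈ centralizer (M : Set (G ⧸ N)) := by
    rw [mem_centralizer_iff]
    intro y hy
    have h4 := congrArg (fun f : MulAut M => ((f ⟨y, hy⟩ : M) : G ⧸ N)) h2
    simp only [MulAut.conjNormal_apply, MulAut.one_apply] at h4
    calc y * x = x * y * x⁻¹ * x := by rw [h4]
      _ = x * y := by group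
  rw [D.cent, mem_bot] at h3
  exact h3

theorem Data.hom_of_range {G : Type*} [Group G] {n m : ℕ} {N : Subgroup G} [N.Normal]
    {M : Subgroup (G ⧸ N)} (D : Data G n N M) (e : M ≃* alternatingGroup (Fin m))
    (hinj : Function.Injective (MulAut.conjNormal : Equiv.Perm (Fin m) →* MulAut (alternatingGroup (Fin m))))
    (hr : haveI := D.normal
      ∀ x : G ⧸ N, (MulAut.congr e) (MulAut.conjNormal x) ∈
        (MulAut.conjNormal : Equiv.Perm (Fin m) →* MulAut (alternatingGroup (Fin m))).range) :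
    ∃ Θ : (G ⧸ N) →* Equiv.Perm (Fin m), Function.Injective Θ := by
  have hM := D.normal
  let φ : (G ⧸ N) →* MulAut (alternatingGroup (Fin m)) :=
    (MulAut.congr e).toMonoidHom.comp (MulAut.conjNormal : (G ⧸ N) →* MulAut M)
  have hφ : Function.Injective φ := (MulAut.congr e).injective.comp D.conj_injective
  let ψ := MonoidHom.ofInjective hinj
  refine ⟨ψ.symm.toMonoidHom.comp (φ.codRestrict _ hr), ?_⟩
  apply ψ.symm.injective.comp
  intro x y hxy
  exact hφ (congrArg Subtype.val hxy)

theorem Data.exists_hom' {G : Type*} [Group G] {n m : ℕ} {N : Subgroup G} [N.Normal]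
    {M : Subgroup (G ⧸ N)} (D : Data G n N M) (hm : 4 ≤ m) (h6 : m ≠ 6) (e : M ≃* alternatingGroup (Fin m)) :
    ∃ Θ : (G ⧸ N) →* Equiv.Perm (Fin m), Function.Injective Θ := by
  have hb := Cfsg.Agent.S2119.result m hm h6
  exact D.hom_of_range e hb.1 fun x => MonoidHom.mem_range.mpr (hb.2 _)

/-! ### degree six -/

open Cfsg.Agent.StdAlt.Six

theorem conjNormal_injective_six :
    Function.Injective (MulAut.conjNormal : Equiv.Perm (Fin 6) →* MulAut (alternatingGroup (Fin 6))) := by
  rw [injective_iff_map_eq_one]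
  intro σ hσ
  apply Cfsg.Agent.StandardComponent.AltAut.eq_one_of_centralizes (m := 4) (by norm_num)
  intro x
  have h4 := congrArg (fun f : MulAut (alternatingGroup (Fin 6)) => ((f x : alternatingGroup (Fin 6)) :
    Equiv.Perm (Fin 6))) hσ
  simpa only [MulAut.conjNormal_apply, MulAut.one_apply] using h4

theorem mem_range_of_ns {α : MulAut (alternatingGroup (Fin 6))} (h : NS α) :
    α ∈ (MulAut.conjNormal : Equiv.Perm (Fin 6) →* MulAut (alternatingGroup (Fin 6))).range := by
  obtain ⟨σ, hσ⟩ := h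
  refine ⟨σ, ?_⟩
  ext x : 2
  rw [MulAut.conjNormal_apply, hσ]

theorem cases_of_order {x : A6} (hx : orderOf x = 3) : mv (x : Equiv.Perm (Fin 6)) = 3 ∨
    (mv (x : Equiv.Perm (Fin 6)) = 6 ∧ ∃ w : A6, (w : Equiv.Perm (Fin 6)) * t0 = x * w) := by
  have h3 : x ^ 3 = 1 := by rw [← hx]; exact pow_orderOf_eq_one x
  have h1 : x ≠ 1 := by
    rintro rfl
    rw [orderOf_one] at hx
    omega
  have h2 : (x : Equiv.Perm (Fin 6)) * x * x = 1 := by
    have := congrArg Subtype.val h3
    rw [pow_succ, pow_two] at this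
    exact this
  rcases cube_cases x h2 (fun h => h1 (Subtype.ext h)) with h | ⟨h, w, hw1, hw2⟩
  · exact Or.inl h
  · exact Or.inr ⟨h, ⟨w, Equiv.Perm.mem_alternatingGroup.mpr hw1⟩, hw2⟩

/-- an automorphism of `A_6` fixing an element of order three is induced by a permutation -/
theorem ns_of_fix {α : MulAut A6} {x : A6} (hx : orderOf x = 3) (h : α x = x) : NS α := by
  rcases cases_of_order hx with h3 | ⟨h6, w', hw'⟩
  · exact ns_of_three ((three_iff _).1 h3) (by rw [h]; exact (three_iff _).1 h3)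
  obtain ⟨c, hc⟩ : ∃ c : A6, (c : Equiv.Perm (Fin 6)).IsThreeCycle :=
    ⟨⟨c0, c0_mem⟩, (three_iff c0).1 (by decide +kernel)⟩
  have hco : orderOf c = 3 := by
    rw [← Subgroup.orderOf_coe]
    exact hc.orderOf
  rcases cases_of_order (x := α c) (by rw [MulEquiv.orderOf_eq]; exact hco) with h7 | ⟨h7, w, hw⟩
  · exact ns_of_three hc ((three_iff _).1 h7)
  · exfalso
    have h1 : ((w * w'⁻¹ * x * (w * w'⁻¹)⁻¹ : A6) : Equiv.Perm (Fin 6)) = α c := by
      push_cast
      have e1 : (x : Equiv.Perm (Fin 6)) = w' * t0 * (w' : Equiv.Perm (Fin 6))⁻¹ := by rw [hw']; group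
      have e2 : (α c : Equiv.Perm (Fin 6)) = w * t0 * (w : Equiv.Perm (Fin 6))⁻¹ := by rw [hw]; group
      rw [e2]
      nth_rewrite 1 [e1]
      group
    have h2 : α c = w * w'⁻¹ * x * (w * w'⁻¹)⁻¹ := Subtype.ext h1.symm
    obtain ⟨g, hg⟩ := α.surjective (w * w'⁻¹)
    have h3 : c = g * x * g⁻¹ := by
      apply α.injective
      rw [map_mul, map_mul, map_inv, h, hg]
      exact h2
    have h4 : mv (c : Equiv.Perm (Fin 6)) = mv (x : Equiv.Perm (Fin 6)) := by
      rw [h3]
      exact mv_conj _ _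
    have h5 : mv (c : Equiv.Perm (Fin 6)) = 3 := (three_iff _).2 hc
    omega

theorem no_six : ∀ σ : Equiv.Perm (Fin 6), Equiv.Perm.sign σ = 1 → σ * σ * σ * (σ * σ * σ) = 1 →
    σ * σ = 1 ∨ σ * σ * σ = 1 := by
  decide +kernel

theorem orderOf_ne_six (x : A6) : orderOf x ≠ 6 := by
  intro h
  have h6 := pow_orderOf_eq_one x
  rw [h] at h6
  have h2 : (x : Equiv.Perm (Fin 6)) * x * x * (x * x * x) = 1 := by
    have e : x ^ 6 = x * x * x * (x * x * x) := by
      rw [pow_add x 3 3, pow_succ, pow_two]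
    rw [e] at h6
    exact congrArg Subtype.val h6
  rcases no_six x (Equiv.Perm.mem_alternatingGroup.mp x.2) h2 with h3 | h3
  · have h4 : x ^ 2 = 1 := by rw [pow_two]; exact Subtype.ext h3
    have := orderOf_dvd_of_pow_eq_one h4
    rw [h] at this
    revert this
    decide
  · have h4 : x ^ 3 = 1 := by rw [pow_succ, pow_two]; exact Subtype.ext h3
    have := orderOf_dvd_of_pow_eq_one h4
    rw [h] at this
    revert this
    decide

/-- degree six: an element of order six -/
theorem Data.hom_six {G : Type*} [Group G] [Finite G] {N : Subgroup G} [N.Normal]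
    {M : Subgroup (G ⧸ N)} (D : Data G 6 N M) (e : M ≃* alternatingGroup (Fin 6)) (hG : Nat.card G = 720)
    (hM : Nat.card M = 360) (g : G) (hg : orderOf g = 6) :
    ∃ Θ : (G ⧸ N) →* Equiv.Perm (Fin 6), Function.Injective Θ := by
  have hMn := D.normal
  have hc := card_eq N M
  rw [hG, hM] at hc
  have hNi : Nat.card N * M.index = 2 := by
    apply Nat.eq_of_mul_eq_mul_left (show 0 < 360 by norm_num)
    rw [show 360 * 2 = 720 by norm_num, hc]
    ring
  -- inner automorphisms
  have hin : ∀ x : G ⧸ N, x ∈ M → NS ((MulAut.congr e) (MulAut.conjNormal x)) := by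
    intro x hx
    refine ⟨e ⟨x, hx⟩, fun y => ?_⟩
    have h1 : (MulAut.congr e) (MulAut.conjNormal x) y = e ⟨x, hx⟩ * y * (e ⟨x, hx⟩)⁻¹ := by
      have h2 : (MulAut.conjNormal x : MulAut M) (e.symm y) = ⟨x, hx⟩ * e.symm y * (⟨x, hx⟩ : M)⁻¹ := by
        apply Subtype.ext
        rw [MulAut.conjNormal_apply]
        rfl
      change e ((MulAut.conjNormal x : MulAut M) (e.symm y)) = _
      rw [h2, map_mul, map_mul, map_inv, MulEquiv.apply_symm_apply]
    rw [h1]
    rfl
  apply D.hom_of_range e conjNormal_injective_six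
  intro x
  apply mem_range_of_ns
  by_cases hx : x ∈ M
  · exact hin x hx
  · have hidx : M.index ≠ 1 := by
      intro h1
      rw [Subgroup.index_eq_one] at h1
      exact hx (by rw [h1]; trivial)
    have hidx2 : M.index = 2 := by
      have hd : M.index ∣ 2 := ⟨Nat.card N, by rw [← hNi, mul_comm]⟩
      rcases (Nat.dvd_prime Nat.prime_two).1 hd with h1 | h1
      · exact absurd h1 hidx
      · exact h1
    have hN1 : Nat.card N = 1 := by
      rw [hidx2] at hNi
      omega
    have hNb : N = ⊥ := Subgroup.card_eq_one.mp hN1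
    -- the image of `g`
    have hy : orderOf (QuotientGroup.mk' N g) = 6 := by
      rw [← hg]
      apply orderOf_injective
      rw [← MonoidHom.ker_eq_bot_iff, QuotientGroup.ker_mk', hNb]
    obtain ⟨y, hyy⟩ : ∃ y, y = QuotientGroup.mk' N g := ⟨_, rfl⟩
    rw [← hyy] at hy
    have hyM : y ∉ M := by
      intro hyM
      apply orderOf_ne_six (e ⟨y, hyM⟩)
      rw [MulEquiv.orderOf_eq, ← Subgroup.orderOf_coe]
      exact hy
    have hy2 : y ^ 2 ∈ M := by
      rw [pow_two]
      exact (Subgroup.mul_mem_iff_of_index_two hidx2).mpr (iff_of_false hyM hyM)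
    have hyfix : (MulAut.conjNormal y : MulAut M) ⟨y ^ 2, hy2⟩ = ⟨y ^ 2, hy2⟩ := by
      apply Subtype.ext
      rw [MulAut.conjNormal_apply]
      change y * y ^ 2 * y⁻¹ = y ^ 2
      group
    have hyNS : NS ((MulAut.congr e) (MulAut.conjNormal y)) := by
      apply ns_of_fix (x := e ⟨y ^ 2, hy2⟩)
      · rw [MulEquiv.orderOf_eq, ← Subgroup.orderOf_coe]
        change orderOf (y ^ 2) = 3
        rw [orderOf_pow' y (by norm_num), hy]
        decide
      · change e ((MulAut.conjNormal y : MulAut M) (e.symm (e ⟨y ^ 2, hy2⟩))) = _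
        rw [MulEquiv.symm_apply_apply, hyfix]
    have hyx : y⁻¹ * x ∈ M :=
      (Subgroup.mul_mem_iff_of_index_two hidx2).mpr (iff_of_false (fun h => hyM (by simpa using M.inv_mem h)) hx)
    have h1 : x = y * (y⁻¹ * x) := by group
    rw [h1, map_mul, map_mul]
    exact hyNS.mul (hin _ hyx)

/-! ### the exceptions -/

/-- degree eight, section `A_7` -/
theorem Data.false_seven {G : Type*} [Group G] [Finite G] {N : Subgroup G} [N.Normal]
    {M : Subgroup (G ⧸ N)} (D : Data G 8 N M) (hs : Same G 8) (e : M ≃* alternatingGroup (Fin 7)) : False := by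
  have hm : Nat.card M = 2520 := by
    have h1 := Cfsg.Agent.H363.AltPrimes.card_alternating (n := 7) (by norm_num)
    rw [← Nat.card_congr e.toEquiv, show Nat.factorial 7 = 5040 by rfl] at h1
    omega
  have hc := card_eq N M
  rw [hm] at hc
  -- the index
  obtain ⟨Θ, hΘ⟩ := D.exists_hom (m := 7) le_rfl e
  have hK := Subgroup.card_dvd_of_injective Θ hΘ
  rw [Nat.card_eq_fintype_card (α := Equiv.Perm (Fin 7)), Fintype.card_perm, Fintype.card_fin,
    ← M.card_mul_index, hm, show Nat.factorial 7 = 2520 * 2 by rfl] at hK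
  have hidx : M.index ∣ 2 := Nat.dvd_of_mul_dvd_mul_left (by norm_num) hK
  have hNi : Nat.card N * M.index = 16 ∨ Nat.card N * M.index = 8 := by
    have e1 : Nat.card G = 2520 * (Nat.card N * M.index) := by rw [hc]; ring
    rcases hs.card with h1 | h1
    · left
      rw [show Nat.factorial 8 = 40320 by rfl] at h1
      omega
    · right
      rw [show Nat.factorial 8 = 40320 by rfl] at h1
      omega
  obtain ⟨a, ha1, ha2, ha⟩ : ∃ a, 2 ≤ a ∧ a ≤ 4 ∧ Nat.card N = 2 ^ a := by
    rcases (Nat.dvd_prime Nat.prime_two).1 hidx with h3 | h3 <;> rw [h3] at hNi <;> rcases hNi with h4 | h4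
    · exact ⟨4, by norm_num, by norm_num, by omega⟩
    · exact ⟨3, by norm_num, by norm_num, by omega⟩
    · exact ⟨3, by norm_num, by norm_num, by omega⟩
    · exact ⟨2, by norm_num, by norm_num, by omega⟩
  have hfa : (Nat.card N).factorization 2 = a := by
    rw [ha, Nat.Prime.factorization_pow Nat.prime_two]
    simp
  obtain ⟨h3', h5, h7, h11⟩ := nums
  have hidxN : ∀ q : ℕ, q.Prime → 8 < 2 * q → q ≤ 8 → q ∣ N.index := by
    intro q hq h1 h2
    rw [Subgroup.index_eq_card, ← M.card_mul_index]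
    exact (D.primes q hq h1 h2).mul_right _
  -- seven
  have h := hs.hyp
  have e7 := pow_dvd_of_normal h7 Nat.prime_two (by norm_num) (h.adj 7 2 h7 Nat.prime_two (by norm_num) (by norm_num))
    N (k := 1) (by rw [pow_one]; exact hidxN 7 h7 (by norm_num) (by norm_num))
  rw [hfa, pow_one] at e7
  have ha3 : a = 3 := by
    interval_cases a
    · revert e7; decide
    · rfl
    · revert e7; decide
  subst ha3
  -- five
  obtain ⟨S, Q, hSN, hfrat, hcard, hqQ, hQS⟩ := exists_normalizing' h5 Nat.prime_two N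
    (hidxN 5 h5 (by norm_num) (by norm_num))
  obtain ⟨x, hx, hxo⟩ := exists_centralizing h5 Nat.prime_two (by norm_num) hqQ hcard hQS (by
    rw [hfa]
    decide)
  have hxN : x ∉ N := by
    intro hxN
    have h6 : orderOf (⟨x, hxN⟩ : N) ∣ Nat.card N := orderOf_dvd_natCard _
    rw [← Subgroup.orderOf_coe] at h6
    change orderOf x ∣ _ at h6
    rw [hxo, ha] at h6
    revert h6
    decide
  refine D.false_of_centralizing hs e hfrat hx hxN Nat.prime_two ?_ (P := {7}) ?_ (by simp) (by simp)
  · rw [hcard, hfa]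
    decide
  · intro p hp
    rw [Finset.mem_singleton] at hp
    subst hp
    norm_num

/-- degree eight, section `PSL(3, 4)` -/
theorem Data.false_psl {G : Type*} [Group G] [Finite G] {N : Subgroup G} [N.Normal]
    {M : Subgroup (G ⧸ N)} (D : Data G 8 N M) (hs : Same G 8) (hM : Real (.psl 3 4) M) (hm : Nat.card M = 20160)
    {g : G} (hg : orderOf g = 15) : False := by
  have hMn := D.normal
  have hc := card_eq N M
  rw [hm] at hc
  have e1 : Nat.card G = 20160 * (Nat.card N * M.index) := by rw [hc]; ring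
  have hNi : Nat.card N * M.index ∣ 2 := by
    rcases hs.card with h1 | h1
    · rw [show Nat.factorial 8 = 40320 by rfl] at h1
      exact ⟨1, by omega⟩
    · rw [show Nat.factorial 8 = 40320 by rfl] at h1
      exact ⟨2, by omega⟩
  have hN2 : Nat.card N ∣ 2 := (Nat.dvd_mul_right _ _).trans hNi
  have hi2 : M.index ∣ 2 := (Nat.dvd_mul_left _ _).trans hNi
  have hy : (QuotientGroup.mk' N g) ^ 2 ∈ M := by
    have h1 := M.pow_index_mem (QuotientGroup.mk' N g)
    obtain ⟨c, hc⟩ := hi2
    rw [hc, pow_mul]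
    exact M.pow_mem h1 c
  -- its order
  have hyo : orderOf (QuotientGroup.mk' N g) = 15 := by
    have h1 : orderOf (QuotientGroup.mk' N g) ∣ 15 := by
      rw [← hg]
      exact orderOf_map_dvd _ g
    have h2 : g ^ orderOf (QuotientGroup.mk' N g) ∈ N := by
      rw [← QuotientGroup.eq_one_iff]
      change QuotientGroup.mk' N (g ^ orderOf (QuotientGroup.mk' N g)) = 1
      rw [map_pow]
      exact pow_orderOf_eq_one _
    have h3 : (g ^ orderOf (QuotientGroup.mk' N g)) ^ 2 = 1 := by
      obtain ⟨c, hc⟩ := hN2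
      rw [hc, pow_mul]
      have h4 : (⟨_, h2⟩ : N) ^ Nat.card N = 1 := pow_card_eq_one'
      have h5 : (g ^ orderOf (QuotientGroup.mk' N g)) ^ Nat.card N = 1 := congrArg Subtype.val h4
      rw [h5, one_pow]
    rw [← pow_mul] at h3
    have h4 := orderOf_dvd_of_pow_eq_one h3
    rw [hg] at h4
    have h5 : 15 ∣ orderOf (QuotientGroup.mk' N g) :=
      Nat.Coprime.dvd_of_dvd_mul_right (by norm_num) h4
    exact Nat.dvd_antisymm h1 h5
  have hy2 : orderOf (⟨_, hy⟩ : M) = 15 := by
    rw [← Subgroup.orderOf_coe]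
    change orderOf ((QuotientGroup.mk' N g) ^ 2) = 15
    rw [orderOf_pow' _ (by norm_num), hyo]
    decide
  obtain ⟨F, _, _, hF, ⟨e⟩⟩ := hM
  apply Cfsg.Agent.S0819.result hF (e ⟨_, hy⟩)
  rw [MulEquiv.orderOf_eq]
  exact hy2

theorem exists_order_mul {G : Type*} [Group G] [Finite G] {N : Subgroup G} [N.Normal]
    {M : Subgroup (G ⧸ N)} {t : ℕ} (ht : t.Prime) {z : G} (hz : orderOf z = t)
    (hM : M ≤ (centralizer ({z} : Set G)).map (QuotientGroup.mk' N)) (y : M) (hk : ¬ t ∣ orderOf y) :
    ∃ g : G, orderOf y * t ∣ orderOf g := by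
  obtain ⟨c, hc, hcy⟩ := hM y.2
  have hcz : c * z = z * c := (mem_centralizer_iff.mp hc z rfl).symm
  have hco : orderOf y ∣ orderOf c := by
    rw [← Subgroup.orderOf_coe, ← hcy]
    exact orderOf_map_dvd _ c
  obtain ⟨j, w, hw, hcw⟩ := Nat.exists_eq_pow_mul_and_not_dvd (orderOf_pos c).ne' t ht.ne_one
  have hc' : orderOf (c ^ t ^ j) = w := by
    rw [orderOf_pow' c (pow_pos ht.pos j).ne', hcw, Nat.gcd_eq_right (Dvd.intro _ rfl),
      Nat.mul_div_cancel_left _ (pow_pos ht.pos j)]
  have hcop : (orderOf (c ^ t ^ j)).Coprime (orderOf z) := by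
    rw [hc', hz, Nat.coprime_comm]
    exact (ht.coprime_iff_not_dvd).2 hw
  have hcomm : Commute (c ^ t ^ j) z := Commute.pow_left hcz _
  refine ⟨c ^ t ^ j * z, ?_⟩
  rw [hcomm.orderOf_mul_eq_mul_orderOf_of_coprime hcop, hc', hz]
  apply Nat.mul_dvd_mul_right
  rw [hcw] at hco
  refine Nat.Coprime.dvd_of_dvd_mul_left ?_ hco
  exact ((Nat.Prime.coprime_iff_not_dvd ht).2 hk).symm.pow_right j

theorem pow_dvd_lcm_or {p k a b : ℕ} (hp : p.Prime) (ha : a ≠ 0) (hb : b ≠ 0) (h : p ^ k ∣ a.lcm b) :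
    p ^ k ∣ a ∨ p ^ k ∣ b := by
  have hl : a.lcm b ≠ 0 := Nat.lcm_ne_zero ha hb
  rw [hp.pow_dvd_iff_le_factorization hl, Nat.factorization_lcm ha hb] at h
  rw [hp.pow_dvd_iff_le_factorization ha, hp.pow_dvd_iff_le_factorization hb]
  have h' : k ≤ max (a.factorization p) (b.factorization p) := h
  exact le_max_iff.mp h'

theorem lcm_ne_zero' : ∀ m : Multiset ℕ, (∀ a ∈ m, 0 < a) → m.lcm ≠ 0 := by
  intro m
  induction m using Multiset.induction_on with
  | empty => intro _; simp
  | cons a m ih =>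
    intro h
    rw [Multiset.lcm_cons]
    exact Nat.lcm_ne_zero (h a (Multiset.mem_cons_self a m)).ne' (ih fun b hb => h b (Multiset.mem_cons_of_mem hb))

theorem pow_le_sum {p k : ℕ} (hp : p.Prime) (hk : k ≠ 0) : ∀ m : Multiset ℕ, (∀ a ∈ m, 0 < a) → p ^ k ∣ m.lcm →
    p ^ k ≤ m.sum := by
  intro m
  induction m using Multiset.induction_on with
  | empty =>
    intro _ h
    rw [Multiset.lcm_zero] at h
    exact absurd (Nat.dvd_one.mp h) (Nat.one_lt_pow hk hp.one_lt).ne'
  | cons a m ih =>
    intro hpos h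
    have hm := fun b hb => hpos b (Multiset.mem_cons_of_mem hb)
    have ha := hpos a (Multiset.mem_cons_self a m)
    rw [Multiset.lcm_cons] at h
    rw [Multiset.sum_cons]
    rcases pow_dvd_lcm_or hp ha.ne' (lcm_ne_zero' m hm) h with h1 | h1
    · exact (Nat.le_of_dvd ha h1).trans (Nat.le_add_right _ _)
    · exact (ih hm h1).trans (Nat.le_add_left _ _)

theorem eleven_le_sum : ∀ m : Multiset ℕ, (∀ a ∈ m, 0 < a) → 2 ^ 3 ∣ m.lcm → 3 ^ 1 ∣ m.lcm → 11 ≤ m.sum := by
  intro m
  induction m using Multiset.induction_on with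
  | empty =>
    intro _ h
    rw [Multiset.lcm_zero] at h
    exact absurd (Nat.dvd_one.mp h) (by norm_num)
  | cons a m ih =>
    intro hpos h h'
    have hm := fun b hb => hpos b (Multiset.mem_cons_of_mem hb)
    have ha := hpos a (Multiset.mem_cons_self a m)
    rw [Multiset.lcm_cons] at h h'
    rw [Multiset.sum_cons]
    rcases pow_dvd_lcm_or Nat.prime_two ha.ne' (lcm_ne_zero' m hm) h with h1 | h1 <;>
    rcases pow_dvd_lcm_or Nat.prime_three ha.ne' (lcm_ne_zero' m hm) h' with h2 | h2
    · have h3 : 8 * 3 ∣ a := Nat.Coprime.mul_dvd_of_dvd_of_dvd (by norm_num) h1 h2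
      have := Nat.le_of_dvd ha h3
      omega
    · have h3 := pow_le_sum Nat.prime_three (by norm_num) m hm h2
      have := Nat.le_of_dvd ha h1
      omega
    · have h3 := pow_le_sum Nat.prime_two (by norm_num) m hm h1
      have := Nat.le_of_dvd ha h2
      omega
    · have := ih hm h1 h2
      omega

theorem not_dvd_order_ten (σ : Equiv.Perm (Fin 10)) : ¬ 8 * 3 ∣ orderOf σ := by
  intro h
  rw [← Equiv.Perm.lcm_cycleType] at h
  have h1 := eleven_le_sum σ.cycleType
    (fun a ha => lt_of_lt_of_le two_pos (Equiv.Perm.two_le_of_mem_cycleType ha))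
    ((Nat.dvd_mul_right _ _).trans h) ((Nat.dvd_mul_left _ _).trans h)
  rw [Equiv.Perm.sum_cycleType] at h1
  have h2 := σ.support.card_le_univ
  rw [Fintype.card_fin] at h2
  omega

/-- degree ten, the second Janko group -/
theorem Data.false_janko {G : Type*} [Group G] [Finite G] {N : Subgroup G} [N.Normal]
    {M : Subgroup (G ⧸ N)} (D : Data G 10 N M) (hs : Same G 10) (hJ : Spor.IsoJ2 M) (hm : Nat.card M = 604800) :
    False := by
  have hMn := D.normal
  obtain ⟨e⟩ := hJ
  have hc := card_eq N M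
  rw [hm] at hc
  have e1 : Nat.card G = 604800 * (Nat.card N * M.index) := by rw [hc]; ring
  -- the index
  have hfin : Finite Spor.J2 := Finite.of_equiv _ e.toEquiv
  have hcJ : Nat.card Spor.J2 = 604800 := by rw [← Nat.card_congr e.toEquiv, hm]
  have hidx : M.index ∣ 2 := by
    let φ : (G ⧸ N) →* MulAut Spor.J2 :=
      (MulAut.congr e).toMonoidHom.comp (MulAut.conjNormal : (G ⧸ N) →* MulAut M)
    have hφ : Function.Injective φ := (MulAut.congr e).injective.comp D.conj_injective
    have h1 := Subgroup.card_dvd_of_injective φ hφ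
    rw [← (Inn Spor.J2).card_mul_index, Subgroup.index_eq_card] at h1
    have h2 : Nat.card (MulAut Spor.J2 ⧸ Inn Spor.J2) = 2 := Cfsg.Agent.S2066.result
    rw [h2] at h1
    have h3 : Nat.card (Inn Spor.J2) ∣ Nat.card Spor.J2 := Subgroup.card_range_dvd _
    have h4 := h1.trans (Nat.mul_dvd_mul_right h3 2)
    rw [hcJ, ← M.card_mul_index, hm] at h4
    exact Nat.dvd_of_mul_dvd_mul_left (by norm_num) h4
  have h3N : (Nat.card N).factorization 3 = 1 := by
    have hNi : Nat.card N * M.index = 6 ∨ Nat.card N * M.index = 3 := by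
      rcases hs.card with h1 | h1
      · left
        rw [show Nat.factorial 10 = 3628800 by rfl] at h1
        omega
      · right
        rw [show Nat.factorial 10 = 3628800 by rfl] at h1
        omega
    have hN : Nat.card N = 6 ∨ Nat.card N = 3 := by
      rcases (Nat.dvd_prime Nat.prime_two).1 hidx with h3 | h3 <;> rw [h3] at hNi <;> omega
    rcases hN with h1 | h1 <;> rw [h1]
    · rw [show (6 : ℕ) = 2 * 3 by norm_num, Nat.factorization_mul (by norm_num) (by norm_num), Finsupp.add_apply,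
        Nat.Prime.factorization Nat.prime_two, Nat.Prime.factorization Nat.prime_three]
      simp
    · rw [Nat.Prime.factorization Nat.prime_three]
      simp
  obtain ⟨h3', h5, h7, h11⟩ := nums
  have hidxN : 7 ∣ N.index := by
    rw [Subgroup.index_eq_card, ← M.card_mul_index]
    exact (D.primes 7 h7 (by norm_num) (by norm_num)).mul_right _
  obtain ⟨S, Q, hSN, hfrat, hcard, hqQ, hQS⟩ := exists_normalizing' h7 h3' N hidxN
  obtain ⟨x, hx, hxo⟩ := exists_centralizing h7 h3' (by norm_num) hqQ hcard hQS (by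
    rw [h3N]
    decide)
  have hxN : x ∉ N := by
    intro hxN
    have h6 : orderOf (⟨x, hxN⟩ : N) ∣ Nat.card N := orderOf_dvd_natCard _
    rw [← Subgroup.orderOf_coe] at h6
    change orderOf x ∣ _ at h6
    rw [hxo] at h6
    have h8 : Nat.card N ∣ 6 := by
      rcases hs.card with h1 | h1
      · rw [show Nat.factorial 10 = 3628800 by rfl] at h1
        exact ⟨M.index, by omega⟩
      · rw [show Nat.factorial 10 = 3628800 by rfl] at h1
        exact ⟨2 * M.index, by
          have : Nat.card N * (2 * M.index) = 2 * (Nat.card N * M.index) := by ring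
          omega⟩
    have := h6.trans h8
    revert this
    decide
  -- the centralizer
  have : Fact (Nat.Prime 3) := ⟨h3'⟩
  obtain ⟨z, hz⟩ := exists_prime_orderOf_dvd_card' 3 (by rw [hcard, h3N]; decide : 3 ∣ Nat.card S)
  have hM := D.le_map_centralizer hfrat hx hxN
  have hM' : M ≤ (centralizer ({(z : G)} : Set G)).map (QuotientGroup.mk' N) := by
    refine hM.trans (Subgroup.map_mono ?_)
    apply centralizer_le
    rintro _ rfl
    exact z.2
  obtain ⟨u, hu⟩ : (8 : ℕ) ∈ Set.range (orderOf : Spor.J2 → ℕ) := by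
    rw [Cfsg.Agent.H379.J2Spec.range_J2]
    decide
  have hu' : orderOf (e.symm u) = 8 := by rw [MulEquiv.orderOf_eq]; exact hu
  obtain ⟨g, hg⟩ := exists_order_mul h3' (z := (z : G)) (by rw [Subgroup.orderOf_coe, hz]) hM' (e.symm u)
    (by rw [hu']; decide)
  rw [hu'] at hg
  obtain ⟨σ, hσ⟩ := hs.spec g
  exact not_dvd_order_ten σ (by rw [hσ]; exact hg)

end Cfsg.Agent.H357.Reduce
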