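import Mathlib
import Cfsg.Agent.H357.ChebMid
import Cfsg.Agent.H363.AltPrimes
import Cfsg.Agent.H405.Shape
import Cfsg.Agent.H365.Zsig

/-!
# The order of a group of Lie type does not divide `n!` with all large primes (helper357)
-/

set_option autoImplicit false

namespace Cfsg.Agent.H357.LieBound

open Cfsg.Agent.H405.Shape Cfsg.Agent.OrdDiv

theorem mul_factorization_lt {r n : ℕ} (hr : r.Prime) (hn : n ≠ 0) :
    (r - 1) * n.factorial.factorization r < n := by
  have : Fact r.Prime := ⟨hr⟩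
  have h := sub_one_mul_padicValNat_factorial_lt_of_ne_zero (p := r) hn
  rwa [← Nat.factorization_def _ hr] at h

theorem pow_ten_le {r : ℕ} (hr : 5 ≤ r) : r ^ 10 ≤ 2 ^ (7 * (r - 1)) := by
  induction r, hr using Nat.le_induction with
  | base => norm_num
  | succ r hr ih =>
    have h1 : (5 * (r + 1)) ^ 10 ≤ (6 * r) ^ 10 := Nat.pow_le_pow_left (by omega) 10
    rw [mul_pow, mul_pow] at h1
    have h2 : (6 : ℕ) ^ 10 ≤ 128 * 5 ^ 10 := by norm_num
    have h3 : 5 ^ 10 * (r + 1) ^ 10 ≤ 5 ^ 10 * (128 * r ^ 10) := by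
      calc 5 ^ 10 * (r + 1) ^ 10 ≤ 6 ^ 10 * r ^ 10 := h1
        _ ≤ 128 * 5 ^ 10 * r ^ 10 := Nat.mul_le_mul_right _ h2
        _ = 5 ^ 10 * (128 * r ^ 10) := by ring
    have h4 := Nat.le_of_mul_le_mul_left h3 (by norm_num)
    calc (r + 1) ^ 10 ≤ 128 * r ^ 10 := h4
      _ ≤ 2 ^ 7 * 2 ^ (7 * (r - 1)) := Nat.mul_le_mul (by norm_num) ih
      _ = 2 ^ (7 * (r + 1 - 1)) := by rw [← pow_add]; congr 1; omega

theorem pow_fifteen_lt {r : ℕ} (hr : 5 ≤ r) : r ^ 15 < 2 ^ (7 * r) := by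
  induction r, hr using Nat.le_induction with
  | base => norm_num
  | succ r hr ih =>
    have h1 : (5 * (r + 1)) ^ 15 ≤ (6 * r) ^ 15 := Nat.pow_le_pow_left (by omega) 15
    rw [mul_pow, mul_pow] at h1
    have h2 : (6 : ℕ) ^ 15 ≤ 128 * 5 ^ 15 := by norm_num
    have h3 : 5 ^ 15 * (r + 1) ^ 15 ≤ 5 ^ 15 * (128 * r ^ 15) := by
      calc 5 ^ 15 * (r + 1) ^ 15 ≤ 6 ^ 15 * r ^ 15 := h1
        _ ≤ 128 * 5 ^ 15 * r ^ 15 := Nat.mul_le_mul_right _ h2
        _ = 5 ^ 15 * (128 * r ^ 15) := by ring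
    have h4 := Nat.le_of_mul_le_mul_left h3 (by norm_num)
    calc (r + 1) ^ 15 ≤ 128 * r ^ 15 := h4
      _ < 2 ^ 7 * 2 ^ (7 * r) := by
        have : (128 : ℕ) = 2 ^ 7 := by norm_num
        rw [this]
        exact Nat.mul_lt_mul_of_pos_left ih (by positivity)
      _ = 2 ^ (7 * (r + 1)) := by rw [← pow_add]; congr 1; omega

theorem coprime_B {n r : ℕ} (hr : r.Prime) (h : 5 * r ≤ n) : (Cheb.B n).Coprime r := by
  unfold Cheb.B
  apply Nat.Coprime.prod_left
  intro t ht
  rw [Finset.mem_filter, Finset.mem_Ioc] at ht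
  apply Nat.Coprime.pow_left
  rw [Nat.coprime_primes ht.2 hr]
  omega

/-- the size argument -/
theorem lie_core {n c r f N l R den : ℕ} (hn : 41 ≤ n) (hr : r.Prime) (hf : 1 ≤ f) (hlN : l ≤ N)
    (h : LieOrd den N R (r ^ f) c) (hlt : R ≤ den * (r ^ f) ^ (N + l)) (hc : c ∣ n.factorial)
    (hB : Cheb.B n ∣ c) :
    (r = 2 ∧ 2 * N < 5 * l ∧ 7 * n ≤ 5 * (f * (N + l))) ∨
      (r = 3 ∧ 2 * N < 3 * l ∧ 2 ^ (7 * n) ≤ 3 ^ (5 * (f * (N + l)))) := by
  obtain ⟨_, hcop, heq⟩ := h
  have hc0 : c ≠ 0 := fun h0 => by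
    rw [h0] at hc
    exact n.factorial_ne_zero (Nat.eq_zero_of_zero_dvd hc)
  have hden0 : 0 < den := by
    rcases Nat.eq_zero_or_pos den with h0 | h0
    · rw [h0, Nat.coprime_zero_left] at hcop
      have : 2 ^ 1 ≤ r ^ f := (Nat.pow_le_pow_left hr.two_le 1).trans (Nat.pow_le_pow_right hr.pos hf)
      omega
    · exact h0
  have hqN : (r ^ f) ^ N ∣ c := by
    have h1 : (r ^ f) ^ N ∣ den * c := by rw [heq]; exact Nat.dvd_mul_right _ _
    exact (Nat.Coprime.pow_left N hcop.symm).dvd_of_dvd_mul_left h1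
  obtain ⟨c', hc'⟩ := hqN
  have hden : den * c' = R := by
    rw [hc'] at heq
    have h1 : (r ^ f) ^ N * (den * c') = (r ^ f) ^ N * R := by rw [← heq]; ring
    exact Nat.eq_of_mul_eq_mul_left (pow_pos (pow_pos hr.pos _) _) h1
  have hc'le : c' ≤ (r ^ f) ^ (N + l) := by
    rw [← hden] at hlt
    exact Nat.le_of_mul_le_mul_left hlt hden0
  rw [← pow_mul] at hc'le
  -- the exponent of `r`
  have hexp : f * N ≤ n.factorial.factorization r := by
    rw [← hr.pow_dvd_iff_le_factorization n.factorial_ne_zero, pow_mul]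
    exact (Dvd.intro _ hc'.symm).trans hc
  have hfac := mul_factorization_lt hr (n := n) (by omega)
  have hfN : (r - 1) * (f * N) < n := lt_of_le_of_lt (Nat.mul_le_mul_left _ hexp) hfac
  have hBn := Cheb.two_pow_le_B (n := n) (by omega)
  rcases Nat.lt_or_ge n (5 * r) with h5 | h5
  · -- `r > n / 5`
    exfalso
    have hr5 : 5 ≤ r := by omega
    have hnr : n < r * r := by nlinarith
    have hv : n.factorial.factorization r = n / r := by
      rw [Nat.factorization_factorial hr (b := 2) (Nat.log_lt_of_lt_pow' (by norm_num) (by rw [pow_two]; exact hnr))]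
      simp
    rw [hv] at hexp
    have hc0' : 0 < c := Nat.pos_of_ne_zero hc0
    have h1 : c ≤ r ^ (3 * (n / r)) := by
      rw [hc']
      calc (r ^ f) ^ N * c' ≤ (r ^ f) ^ N * r ^ (f * (N + l)) := Nat.mul_le_mul_left _ hc'le
        _ = r ^ (f * N + f * (N + l)) := by rw [← pow_mul, ← pow_add]
        _ ≤ r ^ (3 * (n / r)) := by
          apply Nat.pow_le_pow_right hr.pos
          have : f * (N + l) ≤ 2 * (f * N) := by nlinarith
          omega
    have h2 : 2 ^ (7 * n) ≤ r ^ (15 * (n / r)) := by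
      calc 2 ^ (7 * n) ≤ (Cheb.B n) ^ 5 := hBn
        _ ≤ c ^ 5 := Nat.pow_le_pow_left (Nat.le_of_dvd hc0' hB) 5
        _ ≤ (r ^ (3 * (n / r))) ^ 5 := Nat.pow_le_pow_left h1 5
        _ = r ^ (15 * (n / r)) := by rw [← pow_mul]; congr 1; ring
    rcases Nat.eq_zero_or_pos (n / r) with h0 | h0
    · rw [h0] at h2
      have : 1 < 2 ^ (7 * n) := Nat.one_lt_two_pow (by omega)
      simp only [mul_zero, pow_zero] at h2
      omega
    · have h3 : r ^ (15 * (n / r)) < 2 ^ (7 * r * (n / r)) := by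
        rw [pow_mul, pow_mul]
        exact Nat.pow_lt_pow_left (pow_fifteen_lt hr5) (by omega)
      have h4 : 7 * r * (n / r) ≤ 7 * n := by
        rw [mul_assoc]
        exact Nat.mul_le_mul_left 7 (Nat.mul_div_le n r)
      have h5 : 2 ^ (7 * r * (n / r)) ≤ 2 ^ (7 * n) := Nat.pow_le_pow_right (by norm_num) h4
      omega
  · -- `r ≤ n / 5`
    have hBc' : Cheb.B n ∣ c' := by
      rw [hc'] at hB
      exact (Nat.Coprime.pow_right N (Nat.Coprime.pow_right f (coprime_B hr h5))).dvd_of_dvd_mul_left hB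
    have hc'0 : 0 < c' := by
      apply Nat.pos_of_ne_zero
      rintro rfl
      exact hc0 (by rw [hc', mul_zero])
    have hmain : 2 ^ (7 * n) ≤ r ^ (5 * (f * (N + l))) := by
      calc 2 ^ (7 * n) ≤ (Cheb.B n) ^ 5 := hBn
        _ ≤ (r ^ (f * (N + l))) ^ 5 := Nat.pow_le_pow_left ((Nat.le_of_dvd hc'0 hBc').trans hc'le) 5
        _ = r ^ (5 * (f * (N + l))) := by rw [← pow_mul]; congr 1; ring
    by_cases hr2 : r = 2
    · left
      subst hr2
      have h1 : 7 * n ≤ 5 * (f * (N + l)) := (Nat.pow_le_pow_iff_right (by norm_num)).1 hmain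
      refine ⟨rfl, ?_, h1⟩
      by_contra hcon
      have h2 : 5 * (f * (N + l)) ≤ 7 * (f * N) := by nlinarith
      omega
    · by_cases hr3 : r = 3
      · right
        subst hr3
        refine ⟨rfl, ?_, hmain⟩
        by_contra hcon
        have h2 : 6 * (5 * (f * (N + l))) ≤ 50 * (f * N) := by nlinarith
        have h3 : 50 * (f * N) ≤ 25 * (n - 1) := by omega
        have h4 : (2 ^ (7 * n)) ^ 6 ≤ (3 ^ (5 * (f * (N + l)))) ^ 6 := Nat.pow_le_pow_left hmain 6
        rw [← pow_mul, ← pow_mul] at h4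
        have h5 : 3 ^ (5 * (f * (N + l)) * 6) ≤ 3 ^ (25 * (n - 1)) := Nat.pow_le_pow_right (by norm_num) (by omega)
        have h6 : (3 : ℕ) ^ (25 * (n - 1)) ≤ 2 ^ (42 * (n - 1)) := by
          rw [pow_mul, pow_mul]
          exact Nat.pow_le_pow_left (by norm_num) _
        have h7 : (2 : ℕ) ^ (42 * (n - 1)) < 2 ^ (7 * n * 6) := Nat.pow_lt_pow_right (by norm_num) (by omega)
        omega
      · exfalso
        have hr5 : 5 ≤ r := by
          have := hr.two_le
          have h4 : r ≠ 4 := by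
            rintro rfl
            exact absurd hr (by norm_num)
          omega
        have h2 : 5 * (f * (N + l)) ≤ 10 * (f * N) := by nlinarith
        have h3 : (2 ^ (7 * n)) ^ (r - 1) ≤ (r ^ (10 * (f * N))) ^ (r - 1) :=
          Nat.pow_le_pow_left (hmain.trans (Nat.pow_le_pow_right hr.pos h2)) _
        have h4 : (r ^ (10 * (f * N))) ^ (r - 1) ≤ r ^ (10 * (n - 1)) := by
          rw [← pow_mul]
          apply Nat.pow_le_pow_right hr.pos
          have : 10 * (f * N) * (r - 1) = 10 * ((r - 1) * (f * N)) := by ring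
          omega
        have h5 : r ^ (10 * (n - 1)) ≤ 2 ^ (7 * (r - 1) * (n - 1)) := by
          rw [pow_mul, pow_mul]
          exact Nat.pow_le_pow_left (pow_ten_le hr5) _
        have h6 : (2 : ℕ) ^ (7 * (r - 1) * (n - 1)) < (2 ^ (7 * n)) ^ (r - 1) := by
          rw [← pow_mul]
          apply Nat.pow_lt_pow_right (by norm_num)
          have h7 : 7 * n * (r - 1) = 7 * (r - 1) * n := by ring
          rw [h7]
          exact Nat.mul_lt_mul_of_pos_left (by omega) (by omega)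
        omega

/-! ### large primitive primes -/

theorem zsig_false {r m c n : ℕ} (hr : r = 2 ∨ r = 3) (hm : 18 < m) (h2m : n < 2 * m) (hc : c ∣ n.factorial)
    (h : ∀ z j : ℕ, z.Prime → (∀ i : ℕ, 1 ≤ i → i < m → ¬ z ∣ r ^ i - 1) → z ^ j ∣ r ^ m - 1 → z ^ j ∣ c) :
    False := by
  obtain ⟨z, hz, hzd, hprim, hlarge⟩ := Cfsg.Agent.H365.Zsig.large_zsigmondy r m (by omega) (by omega)
    (fun h => by omega) (fun h => by omega) (fun h => by omega) (fun h => by omega)
  have hzr : ¬ z ∣ r := by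
    intro hd
    have h1 : z ∣ r ^ m := hd.trans (dvd_pow_self r (by omega))
    have h2 : 1 ≤ r ^ m := Nat.one_le_pow _ _ (by omega)
    have h3 : z ∣ 1 := by
      have := Nat.dvd_sub h1 hzd
      rwa [Nat.sub_sub_self h2] at this
    exact hz.one_lt.ne' (Nat.dvd_one.1 h3)
  have : Fact z.Prime := ⟨hz⟩
  have hr0 : (r : ZMod z) ≠ 0 := by
    intro h0
    exact hzr ((ZMod.natCast_eq_zero_iff r z).1 h0)
  have hone : ∀ i : ℕ, (r : ZMod z) ^ i = 1 ↔ z ∣ r ^ i - 1 := by
    intro i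
    have h2 : 1 ≤ r ^ i := Nat.one_le_pow _ _ (by omega)
    rw [← ZMod.natCast_eq_zero_iff, Nat.cast_sub h2, Nat.cast_pow, Nat.cast_one, sub_eq_zero]
  have hord : orderOf (r : ZMod z) = m := by
    apply (orderOf_eq_iff (by omega)).2
    refine ⟨(hone m).2 hzd, fun i hi hi0 h1 => ?_⟩
    exact hprim i hi0 hi ((hone i).1 h1)
  have hmz : m ∣ z - 1 := by
    rw [← hord]
    apply orderOf_dvd_of_pow_eq_one
    exact ZMod.pow_card_sub_one_eq_one hr0
  have hzc : z ∣ c := by
    have := h z 1 hz hprim (by rw [pow_one]; exact hzd)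
    rwa [pow_one] at this
  have hzn : z ≤ n := (hz.dvd_factorial).1 (hzc.trans hc)
  have hz2 := hz.two_le
  have hzm : z = m + 1 := by
    obtain ⟨d, hd⟩ := hmz
    have hd2 : d < 2 := by
      by_contra hlt
      have : m * 2 ≤ m * d := Nat.mul_le_mul_left m (by omega)
      omega
    have hd0 : d ≠ 0 := by
      rintro rfl
      omega
    have hd1 : d = 1 := by omega
    rw [hd1, mul_one] at hd
    omega
  have hsq : z ^ 2 ∣ r ^ m - 1 := by
    rcases hlarge with h1 | h1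
    · omega
    · exact h1
  have h3 : z ^ 2 ∣ n.factorial := (h z 2 hz hprim hsq).trans hc
  have h4 := (hz.pow_dvd_iff_le_factorization n.factorial_ne_zero).1 h3
  rw [Cfsg.Agent.H363.AltPrimes.factorization_factorial hz hzn (by omega)] at h4
  omega

theorem zpow_dvd {z j den c X Y : ℕ} (hz : z.Prime) (hnd : ¬ z ∣ den) (heq : den * c = X * Y)
    (hj : z ^ j ∣ Y) : z ^ j ∣ c := by
  have h1 : z ^ j ∣ den * c := by
    rw [heq]
    exact hj.mul_left _
  exact (Nat.Coprime.pow_left j ((hz.coprime_iff_not_dvd).2 hnd)).dvd_of_dvd_mul_left h1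

end Cfsg.Agent.H357.LieBound
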