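import Mathlib
import Cfsg.Agent.H357.LieBound

/-!
# The families (helper357)

`arith` : the order of a known simple group dividing `n!`, `n ≥ 41`, divisible by `B n` and by all primes of
`(n/2, n]`, is the order of an alternating group.
-/

set_option autoImplicit false

namespace Cfsg.Agent.H357.LieBound

open Cfsg.Agent.H405.Shape Cfsg.Agent.OrdDiv Finset

/-! ### upper bounds for the products -/

theorem sum_range_two (n : ℕ) : ∑ i ∈ range n, (i + 2) = n * (n + 1) / 2 + n := by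
  induction n with
  | zero => rfl
  | succ n ih =>
    rw [sum_range_succ, ih]
    have h1 : (n + 1) * (n + 1 + 1) = n * (n + 1) + 2 * (n + 1) := by ring
    rw [h1]
    omega

theorem psl_le {n q : ℕ} (hn : 1 ≤ n) : ∏ i ∈ range n, (q ^ (i + 1) - 1) ≤
    (Nat.gcd n (q - 1) * (q - 1)) * q ^ (n * (n - 1) / 2 + (n - 1)) := by
  obtain ⟨m, rfl⟩ : ∃ m, n = m + 1 := ⟨n - 1, by omega⟩
  rw [prod_range_succ']
  have h1 : ∏ i ∈ range m, (q ^ (i + 1 + 1) - 1) ≤ q ^ (∑ i ∈ range m, (i + 2)) := by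
    rw [← prod_pow_eq_pow_sum]
    exact prod_le_prod' fun i _ => Nat.sub_le _ _
  rw [sum_range_two] at h1
  have h2 : (m + 1) * (m + 1 - 1) = m * (m + 1) := by rw [Nat.add_sub_cancel]; ring
  rw [h2, Nat.add_sub_cancel, zero_add, pow_one]
  have h3 : q - 1 ≤ Nat.gcd (m + 1) (q - 1) * (q - 1) :=
    Nat.le_mul_of_pos_left _ (Nat.gcd_pos_of_pos_left _ (by omega))
  calc _ ≤ q ^ (m * (m + 1) / 2 + m) * (Nat.gcd (m + 1) (q - 1) * (q - 1)) := Nat.mul_le_mul h1 h3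
    _ = _ := by ring

theorem prB_le {m q : ℕ} : ∏ i ∈ range m, (q ^ (2 * (i + 1)) - 1) ≤ q ^ (m * (m + 1)) := by
  have h1 : ∏ i ∈ range m, (q ^ (2 * (i + 1)) - 1) ≤ q ^ (∑ i ∈ range m, 2 * (i + 1)) := by
    rw [← prod_pow_eq_pow_sum]
    exact prod_le_prod' fun i _ => Nat.sub_le _ _
  have h2 : ∑ i ∈ range m, 2 * (i + 1) = m * (m + 1) := by
    induction m with
    | zero => rfl
    | succ m ih =>
      rw [sum_range_succ, ih]
      · ring
      · rw [← prod_pow_eq_pow_sum]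
        exact prod_le_prod' fun i _ => Nat.sub_le _ _
  rwa [h2] at h1

/-- pairs of factors in the unitary order -/
theorem pair_le {q k : ℕ} (hq : 1 ≤ q) : (q ^ k - 1) * (q ^ (k + 1) + 1) ≤ q ^ (2 * k + 1) := by
  obtain ⟨x, hx⟩ : ∃ x, q ^ k = x + 1 := ⟨q ^ k - 1, by have := Nat.one_le_pow k q hq; omega⟩
  have h1 : q ^ (2 * k + 1) = (x + 1) * (x + 1) * q := by rw [← hx]; ring
  rw [h1, pow_succ, hx, Nat.add_sub_cancel]
  obtain ⟨y, rfl⟩ : ∃ y, q = y + 1 := ⟨q - 1, by omega⟩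
  nlinarith [Nat.zero_le (x * y)]

/-- the factors of the unitary order -/
def uf (q i : ℕ) : ℕ := if Even i then q ^ (i + 1) + 1 else q ^ (i + 1) - 1

theorem uf_pairs {q : ℕ} (hq : 1 ≤ q) (j : ℕ) : ∏ i ∈ range (2 * j), uf q (i + 1) ≤ q ^ (j * (2 * j + 3)) := by
  induction j with
  | zero => simp
  | succ j ih =>
    rw [show 2 * (j + 1) = 2 * j + 1 + 1 by ring, prod_range_succ, prod_range_succ, mul_assoc]
    have e1 : uf q (2 * j + 1) = q ^ (2 * j + 2) - 1 := by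
      unfold uf
      rw [if_neg (by rw [Nat.not_even_iff_odd]; exact ⟨j, by ring⟩)]
    have e2 : uf q (2 * j + 1 + 1) = q ^ (2 * j + 2 + 1) + 1 := by
      unfold uf
      rw [if_pos ⟨j + 1, by ring⟩]
    rw [e1, e2]
    calc _ ≤ q ^ (j * (2 * j + 3)) * q ^ (2 * (2 * j + 2) + 1) := Nat.mul_le_mul ih (pair_le hq)
      _ = q ^ ((j + 1) * (2 * j + 1 + 1 + 3)) := by rw [← pow_add]; congr 1; ring

theorem uf_le {q : ℕ} (hq : 1 ≤ q) (m : ℕ) : ∏ i ∈ range m, uf q (i + 1) ≤ q ^ (m * (m + 1) / 2 + m) := by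
  rcases Nat.even_or_odd' m with ⟨j, rfl | rfl⟩
  · refine (uf_pairs hq j).trans (Nat.pow_le_pow_right hq ?_)
    have : 2 * j * (2 * j + 1) = 2 * (j * (2 * j + 1)) := by ring
    rw [this, Nat.mul_div_cancel_left _ (by norm_num)]
    nlinarith
  · rw [prod_range_succ]
    have e1 : uf q (2 * j + 1) ≤ q ^ (2 * j + 2) := by
      unfold uf
      rw [if_neg (by rw [Nat.not_even_iff_odd]; exact ⟨j, by ring⟩)]
      exact Nat.sub_le _ _
    refine (Nat.mul_le_mul (uf_pairs hq j) e1).trans ?_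
    rw [← pow_add]
    apply Nat.pow_le_pow_right hq
    have : (2 * j + 1) * (2 * j + 1 + 1) = 2 * ((2 * j + 1) * (j + 1)) := by ring
    rw [this, Nat.mul_div_cancel_left _ (by norm_num)]
    nlinarith

theorem psu_le {n q : ℕ} (hq : 1 ≤ q) (hn : 1 ≤ n) :
    ∏ i ∈ range n, (if Even i then q ^ (i + 1) + 1 else q ^ (i + 1) - 1) ≤
      (Nat.gcd n (q + 1) * (q + 1)) * q ^ (n * (n - 1) / 2 + (n - 1)) := by
  obtain ⟨m, rfl⟩ : ∃ m, n = m + 1 := ⟨n - 1, by omega⟩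
  have h1 := uf_le hq m
  have h0 : ∏ i ∈ range (m + 1), (if Even i then q ^ (i + 1) + 1 else q ^ (i + 1) - 1) =
      (∏ i ∈ range m, uf q (i + 1)) * (q + 1) := by
    rw [prod_range_succ']
    congr 1
    simp
  rw [h0]
  have h2 : (m + 1) * (m + 1 - 1) = m * (m + 1) := by rw [Nat.add_sub_cancel]; ring
  rw [h2, Nat.add_sub_cancel]
  have h3 : q + 1 ≤ Nat.gcd (m + 1) (q + 1) * (q + 1) :=
    Nat.le_mul_of_pos_left _ (Nat.gcd_pos_of_pos_left _ (by omega))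
  calc _ ≤ q ^ (m * (m + 1) / 2 + m) * (Nat.gcd (m + 1) (q + 1) * (q + 1)) := Nat.mul_le_mul h1 h3
    _ = _ := by ring

theorem oplus_le {m q : ℕ} (hm : 1 ≤ m) :
    (q ^ m - 1) * ∏ i ∈ range (m - 1), (q ^ (2 * (i + 1)) - 1) ≤ q ^ (m * (m - 1) + m) := by
  calc (q ^ m - 1) * ∏ i ∈ range (m - 1), (q ^ (2 * (i + 1)) - 1) ≤ q ^ m * q ^ ((m - 1) * (m - 1 + 1)) :=
        Nat.mul_le_mul (Nat.sub_le _ _) prB_le
    _ = q ^ (m * (m - 1) + m) := by
      rw [← pow_add, Nat.sub_add_cancel hm]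
      congr 1
      ring

theorem ominus_le {m q : ℕ} (hq : 1 ≤ q) (hm : 2 ≤ m) :
    (q ^ m + 1) * ∏ i ∈ range (m - 1), (q ^ (2 * (i + 1)) - 1) ≤ q ^ (m * (m - 1) + m) := by
  obtain ⟨k, rfl⟩ : ∃ k, m = k + 2 := ⟨m - 2, by omega⟩
  rw [show k + 2 - 1 = k + 1 by omega, prod_range_succ', ← mul_assoc, mul_comm (q ^ (k + 2) + 1), mul_assoc]
  have h1 : (q ^ (k + 2) + 1) * (q ^ (2 * (0 + 1)) - 1) ≤ q ^ (k + 4) := by
    obtain ⟨x, hx⟩ : ∃ x, q ^ 2 = x + 1 := ⟨q ^ 2 - 1, by have := Nat.one_le_pow 2 q hq; omega⟩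
    have hk : 1 ≤ q ^ k := Nat.one_le_pow _ _ hq
    have e1 : q ^ (k + 2) = q ^ k * (x + 1) := by rw [pow_add, hx]
    have e2 : q ^ (k + 4) = q ^ k * (x + 1) * (x + 1) := by rw [show k + 4 = k + 2 + 2 by ring, pow_add, pow_add, hx]
    rw [show 2 * (0 + 1) = 2 by norm_num, hx, e1, e2, Nat.add_sub_cancel]
    nlinarith
  have h2 : ∏ i ∈ range k, (q ^ (2 * (i + 1 + 1)) - 1) ≤ q ^ (∑ i ∈ range k, 2 * (i + 1 + 1)) := by
    rw [← prod_pow_eq_pow_sum]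
    exact prod_le_prod' fun i _ => Nat.sub_le _ _
  have h3 : ∀ k : ℕ, ∑ i ∈ range k, 2 * (i + 1 + 1) = k * (k + 3) := by
    intro k
    induction k with
    | zero => rfl
    | succ k ih =>
      rw [sum_range_succ, ih]
      ring
  rw [h3] at h2
  calc _ ≤ q ^ (k * (k + 3)) * q ^ (k + 4) := Nat.mul_le_mul h2 h1
    _ = q ^ ((k + 2) * (k + 1) + (k + 2)) := by rw [← pow_add]; congr 1; ring

end Cfsg.Agent.H357.LieBound
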