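import Mathlib
import Cfsg.Agent.H357.Fams

/-!
# Only alternating groups (helper357)

`arith` : the order of a known simple group dividing `n!`, `n ≥ 41`, divisible by `B n` and by all primes of
`(n/2, n]`, is the order of an alternating group.
-/

set_option autoImplicit false

namespace Cfsg.Agent.H357.LieBound

open Cfsg.Agent.H405.Shape Cfsg.Agent.OrdDiv Finset

theorem sub_mul_add {x : ℕ} (hx : 1 ≤ x) : x ^ 2 - 1 = (x - 1) * (x + 1) := by
  obtain ⟨y, rfl⟩ : ∃ y, x = y + 1 := ⟨x - 1, by omega⟩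
  rw [Nat.add_sub_cancel]
  have : (y + 1) ^ 2 = y * (y + 1 + 1) + 1 := by ring
  omega

section

variable {n c f : ℕ}

/-- `z ^ j ∣ (q ^ i) ^ 2 - 1`, `z ∤ q ^ i - 1`: `z ^ j ∣ q ^ i + 1` -/
theorem dvd_add_one {z j x : ℕ} (hz : z.Prime) (hx : 1 ≤ x) (h1 : ¬ z ∣ x - 1) (h2 : z ^ j ∣ x ^ 2 - 1) :
    z ^ j ∣ x + 1 := by
  rw [sub_mul_add hx] at h2
  exact (Nat.Coprime.pow_left j ((hz.coprime_iff_not_dvd).2 h1)).dvd_of_dvd_mul_left h2

/-- the linear groups in dimension `2`, `3`, `4` -/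
theorem psl_false {r d : ℕ} (hr : r = 2 ∨ r = 3) (hd : 2 ≤ d) (hn : 41 ≤ n) (hf : 1 ≤ f) (hm : n < 2 * (f * d))
    (h : LieOrd (Nat.gcd d (r ^ f - 1) * (r ^ f - 1)) (d * (d - 1) / 2) (∏ i ∈ range d, ((r ^ f) ^ (i + 1) - 1))
      (r ^ f) c) (hc : c ∣ n.factorial) : False := by
  obtain ⟨-, -, heq⟩ := h
  refine zsig_false (n := n) hr (m := f * d) (by omega) hm hc fun z j hz hprim hj => ?_
  have h1 : ¬ z ∣ r ^ f - 1 := by
    apply hprim f hf
    calc f < f * 2 := by omega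
      _ ≤ f * d := Nat.mul_le_mul_left f hd
  have hden : ¬ z ∣ Nat.gcd d (r ^ f - 1) * (r ^ f - 1) := by
    rw [hz.dvd_mul]
    rintro (h2 | h2)
    · exact h1 (h2.trans (Nat.gcd_dvd_right _ _))
    · exact h1 h2
  obtain ⟨e, rfl⟩ : ∃ e, d = e + 1 := ⟨d - 1, by omega⟩
  rw [prod_range_succ, ← mul_assoc ((r ^ f) ^ _)] at heq
  apply zpow_dvd hz hden heq
  rw [← pow_mul]
  exact hj

theorem psu_false {d : ℕ} (hd : d = 3 ∨ d = 4) (hn : 41 ≤ n) (hf : 1 ≤ f) (hm : n < 2 * (6 * f))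
    (h : LieOrd (Nat.gcd d (2 ^ f + 1) * (2 ^ f + 1)) (d * (d - 1) / 2)
      (∏ i ∈ range d, (if Even i then (2 ^ f) ^ (i + 1) + 1 else (2 ^ f) ^ (i + 1) - 1)) (2 ^ f) c)
    (hc : c ∣ n.factorial) : False := by
  obtain ⟨-, -, heq⟩ := h
  have hq : 1 ≤ 2 ^ f := Nat.one_le_two_pow
  refine zsig_false (n := n) (Or.inl rfl) (m := 6 * f) (by omega) hm hc fun z j hz hprim hj => ?_
  have h1 : ¬ z ∣ 2 ^ f + 1 := by
    intro h2
    apply hprim (2 * f) (by omega) (by omega)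
    rw [mul_comm, pow_mul, sub_mul_add hq]
    exact h2.mul_left _
  have hden : ¬ z ∣ Nat.gcd d (2 ^ f + 1) * (2 ^ f + 1) := by
    rw [hz.dvd_mul]
    rintro (h2 | h2)
    · exact h1 (h2.trans (Nat.gcd_dvd_right _ _))
    · exact h1 h2
  have h3 : z ^ j ∣ (2 ^ f) ^ 3 + 1 := by
    apply dvd_add_one hz (Nat.one_le_pow _ _ hq)
    · rw [← pow_mul]
      exact hprim (f * 3) (by omega) (by omega)
    · rw [← pow_mul, ← pow_mul, show f * (3 * 2) = 6 * f by ring]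
      exact hj
  have h4 : (2 ^ f) ^ 3 + 1 ∣ ∏ i ∈ range d, (if Even i then (2 ^ f) ^ (i + 1) + 1 else (2 ^ f) ^ (i + 1) - 1) := by
    have h5 : (if Even 2 then (2 ^ f) ^ (2 + 1) + 1 else (2 ^ f) ^ (2 + 1) - 1) ∣
        ∏ i ∈ range d, (if Even i then (2 ^ f) ^ (i + 1) + 1 else (2 ^ f) ^ (i + 1) - 1) :=
      Finset.dvd_prod_of_mem (fun i => if Even i then (2 ^ f) ^ (i + 1) + 1 else (2 ^ f) ^ (i + 1) - 1)
        (mem_range.2 (by omega))
    rwa [if_pos (by decide)] at h5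
  exact zpow_dvd hz hden heq (h3.trans h4)

end

theorem spor_facts : ∀ x ∈ spor, ¬ (37 ∣ x.2 ∧ 41 ∣ x.2) ∧ ¬ 73 ∣ x.2 ∧ x.2 < 2 ^ 180 := by decide +kernel

theorem spor_false {n c : ℕ} (hn : 41 ≤ n) (hB : Cheb.B n ∣ c)
    (hp : ∀ p : ℕ, p.Prime → n < 2 * p → p ≤ n → p ∣ c) {g : Grp} (hg : (g, c) ∈ spor) : False := by
  obtain ⟨h1, h2, h3⟩ := spor_facts _ hg
  simp only at h1 h2 h3
  rcases Nat.lt_or_ge n 73 with h | h
  · exact h1 ⟨hp 37 (by norm_num) (by omega) (by omega), hp 41 (by norm_num) (by omega) (by omega)⟩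
  · rcases Nat.lt_or_ge n 146 with h' | h'
    · exact h2 (hp 73 (by norm_num) (by omega) (by omega))
    · have hc0 : 0 < c := by
        rcases Nat.eq_zero_or_pos c with h0 | h0
        · exact absurd ⟨h0 ▸ dvd_zero 37, h0 ▸ dvd_zero 41⟩ h1
        · exact h0
      have h4 := Cheb.two_pow_le_B (n := n) (by omega)
      have h5 : (Cheb.B n) ^ 5 ≤ c ^ 5 := Nat.pow_le_pow_left (Nat.le_of_dvd hc0 hB) 5
      have h6 : c ^ 5 ≤ (2 ^ 180) ^ 5 := Nat.pow_le_pow_left h3.le 5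
      have h7 : (2 : ℕ) ^ (7 * 146) ≤ 2 ^ (7 * n) := Nat.pow_le_pow_right (by norm_num) (by omega)
      have h8 : ((2 : ℕ) ^ 180) ^ 5 < 2 ^ (7 * 146) := by
        rw [← pow_mul]
        exact Nat.pow_lt_pow_right (by norm_num) (by norm_num)
      omega

/-- **Only alternating groups** -/
theorem arith {n c : ℕ} (hn : 41 ≤ n) (hc : c ∣ n.factorial) (hB : Cheb.B n ∣ c)
    (hp : ∀ p : ℕ, p.Prime → n < 2 * p → p ≤ n → p ∣ c) {g : Grp} (hg : Ord g c) : ∃ m, g = .alt m := by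
  -- a family without exceptions
  have good : ∀ (N l R den q : ℕ), l ≤ N → 5 * l ≤ 2 * N → (3 * l ≤ 2 * N) → LieOrd den N R q c →
      R ≤ den * q ^ (N + l) → False := by
    intro N l R den q h1 h2 h3 h4 h5
    obtain ⟨r, f, hr, hf, rfl⟩ := (isPrimePow_nat_iff _).1 h4.pp
    rcases lie_core hn hr hf h1 h4 h5 hc hB with ⟨-, h6, -⟩ | ⟨-, h6, -⟩ <;> omega
  have hq1 : ∀ {den N R q : ℕ}, LieOrd den N R q c → 1 ≤ q := fun h => h.pp.one_lt.le
  have hdenpos : ∀ {den N R q : ℕ}, LieOrd den N R q c → 1 ≤ den := fun {den N R q} h => by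
    rcases Nat.eq_zero_or_pos den with h0 | h0
    · have h1 := h.cop
      rw [h0, Nat.coprime_zero_left] at h1
      have := h.pp.one_lt
      omega
    · exact h0
  -- a product of factors `≤ q ^ k` is bounded
  have hle : ∀ {den N R q k : ℕ}, LieOrd den N R q c → R ≤ q ^ k → R ≤ den * q ^ k := fun h h1 =>
    h1.trans (Nat.le_mul_of_pos_left _ (hdenpos h))
  cases g with
  | alt m => exact ⟨m, rfl⟩
  | psl d q =>
    exfalso
    obtain ⟨hd, hd2, h⟩ := hg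
    have h5 := psl_le (q := q) (show 1 ≤ d by omega)
    obtain ⟨r, f, hr, hf, rfl⟩ := (isPrimePow_nat_iff _).1 h.pp
    have hdd : d - 1 ≤ d * (d - 1) / 2 := by
      rw [Nat.le_div_iff_mul_le (by norm_num), mul_comm]
      exact Nat.mul_le_mul_right _ hd
    have hdiv : 2 * (d * (d - 1) / 2) = d * (d - 1) := Nat.mul_div_cancel' (Nat.even_mul_pred_self d).two_dvd
    rcases lie_core hn hr hf hdd h h5 hc hB with ⟨rfl, h6, h7⟩ | ⟨rfl, h6, h7⟩
    · have hd5 : d < 5 := by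
        rw [hdiv] at h6
        exact Nat.lt_of_mul_lt_mul_right h6
      apply psl_false (r := 2) (Or.inl rfl) hd hn hf _ h hc
      interval_cases d
      · have : 2 * (2 - 1) / 2 + (2 - 1) = 2 := by norm_num
        rw [this] at h7
        omega
      · have : 3 * (3 - 1) / 2 + (3 - 1) = 5 := by norm_num
        rw [this] at h7
        omega
      · have : 4 * (4 - 1) / 2 + (4 - 1) = 9 := by norm_num
        rw [this] at h7
        omega
    · have hd3 : d < 3 := by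
        rw [hdiv] at h6
        exact Nat.lt_of_mul_lt_mul_right h6
      have hd2 : d = 2 := by omega
      subst hd2
      apply psl_false (r := 3) (Or.inr rfl) hd hn hf _ h hc
      have : 2 * (2 - 1) / 2 + (2 - 1) = 2 := by norm_num
      rw [this] at h7
      -- `2 ^ (7 n) ≤ 3 ^ (10 f)`
      have h8 : (2 : ℕ) ^ (7 * n) ≤ 2 ^ (16 * f) := by
        calc (2 : ℕ) ^ (7 * n) ≤ 3 ^ (5 * (f * 2)) := h7
          _ = (3 ^ 10) ^ f := by rw [← pow_mul]; congr 1; ring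
          _ ≤ (2 ^ 16) ^ f := Nat.pow_le_pow_left (by norm_num) f
          _ = 2 ^ (16 * f) := by rw [← pow_mul]
      have h9 := (Nat.pow_le_pow_iff_right (by norm_num : 1 < 2)).1 h8
      omega
  | psp m q =>
    exfalso
    obtain ⟨hm, hm2, h⟩ := hg
    have h5 : ∏ i ∈ range m, (q ^ (2 * (i + 1)) - 1) ≤ Nat.gcd 2 (q - 1) * q ^ (m ^ 2 + m) := by
      apply hle h
      have := prB_le (m := m) (q := q)
      rwa [show m * (m + 1) = m ^ 2 + m by ring] at this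
    obtain ⟨r, f, hr, hf, rfl⟩ := (isPrimePow_nat_iff _).1 h.pp
    rcases lie_core hn hr hf (by nlinarith) h h5 hc hB with ⟨rfl, h6, h7⟩ | ⟨rfl, h6, h7⟩
    · have hm3 : m < 3 := by nlinarith
      have hm2 : m = 2 := by omega
      subst hm2
      obtain ⟨-, -, heq⟩ := h
      have hq : 1 ≤ 2 ^ f := Nat.one_le_two_pow
      refine zsig_false (n := n) (Or.inl rfl) (m := f * 4) (by omega) (by omega) hc fun z j hz hprim hj => ?_
      have h1 : ¬ z ∣ 2 ^ f - 1 := hprim f hf (by omega)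
      have hden : ¬ z ∣ Nat.gcd 2 (2 ^ f - 1) := fun h2 => h1 (h2.trans (Nat.gcd_dvd_right _ _))
      rw [prod_range_succ, ← mul_assoc ((2 ^ f) ^ _)] at heq
      apply zpow_dvd hz hden heq
      rw [← pow_mul]
      exact hj
    · have : m < 2 := by nlinarith
      omega
  | psu d q =>
    exfalso
    obtain ⟨hd, hd2, h⟩ := hg
    have h5 := psu_le (hq1 h) (show 1 ≤ d by omega)
    obtain ⟨r, f, hr, hf, rfl⟩ := (isPrimePow_nat_iff _).1 h.pp
    have hdd : d - 1 ≤ d * (d - 1) / 2 := by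
      rw [Nat.le_div_iff_mul_le (by norm_num), mul_comm]
      exact Nat.mul_le_mul_right _ (by omega)
    have hdiv : 2 * (d * (d - 1) / 2) = d * (d - 1) := Nat.mul_div_cancel' (Nat.even_mul_pred_self d).two_dvd
    rcases lie_core hn hr hf hdd h h5 hc hB with ⟨rfl, h6, h7⟩ | ⟨rfl, h6, h7⟩
    · have hd5 : d < 5 := by
        rw [hdiv] at h6
        exact Nat.lt_of_mul_lt_mul_right h6
      refine psu_false (show d = 3 ∨ d = 4 by omega) hn hf ?_ h hc
      interval_cases d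
      · have : 3 * (3 - 1) / 2 + (3 - 1) = 5 := by norm_num
        rw [this] at h7
        omega
      · have : 4 * (4 - 1) / 2 + (4 - 1) = 9 := by norm_num
        rw [this] at h7
        omega
    · have hd3 : d < 3 := by
        rw [hdiv] at h6
        exact Nat.lt_of_mul_lt_mul_right h6
      omega
  | oodd m q =>
    exfalso
    obtain ⟨hm, ho, h⟩ := hg
    apply good (m ^ 2) m _ _ q (by nlinarith) (by nlinarith) (by nlinarith) h
    apply hle h
    have := prB_le (m := m) (q := q)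
    rwa [show m * (m + 1) = m ^ 2 + m by ring] at this
  | oplus m q =>
    exfalso
    obtain ⟨hm, h⟩ := hg
    obtain ⟨k, rfl⟩ : ∃ k, m = k + 4 := ⟨m - 4, by omega⟩
    refine good ((k + 4) * (k + 4 - 1)) (k + 4) _ _ q ?_ ?_ ?_ h (hle h (oplus_le (by omega)))
    · rw [show k + 4 - 1 = k + 3 by omega]; nlinarith
    · rw [show k + 4 - 1 = k + 3 by omega]; nlinarith
    · rw [show k + 4 - 1 = k + 3 by omega]; nlinarith
  | ominus m q =>
    exfalso
    obtain ⟨hm, h⟩ := hg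
    obtain ⟨k, rfl⟩ : ∃ k, m = k + 4 := ⟨m - 4, by omega⟩
    refine good ((k + 4) * (k + 4 - 1)) (k + 4) _ _ q ?_ ?_ ?_ h (hle h (ominus_le (hq1 h) (by omega)))
    · rw [show k + 4 - 1 = k + 3 by omega]; nlinarith
    · rw [show k + 4 - 1 = k + 3 by omega]; nlinarith
    · rw [show k + 4 - 1 = k + 3 by omega]; nlinarith
  | g2 q =>
    exfalso
    obtain ⟨hq3, h⟩ := hg
    refine good 6 2 _ _ q (by norm_num) (by norm_num) (by norm_num) h (hle h ?_)
    calc (q ^ 2 - 1) * (q ^ 6 - 1) ≤ q ^ 2 * q ^ 6 := Nat.mul_le_mul (Nat.sub_le _ _) (Nat.sub_le _ _)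
      _ = q ^ (6 + 2) := by ring
  | f4 q =>
    exfalso
    refine good 24 4 _ _ q (by norm_num) (by norm_num) (by norm_num) hg (hle hg ?_)
    calc _ ≤ q ^ 2 * q ^ 6 * q ^ 8 * q ^ 12 := by gcongr <;> exact Nat.sub_le _ _
      _ = q ^ (24 + 4) := by ring
  | e6 q =>
    exfalso
    refine good 36 6 _ _ q (by norm_num) (by norm_num) (by norm_num) hg (hle hg ?_)
    calc _ ≤ q ^ 2 * q ^ 5 * q ^ 6 * q ^ 8 * q ^ 9 * q ^ 12 := by gcongr <;> exact Nat.sub_le _ _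
      _ = q ^ (36 + 6) := by ring
  | e7 q =>
    exfalso
    refine good 63 7 _ _ q (by norm_num) (by norm_num) (by norm_num) hg (hle hg ?_)
    calc _ ≤ q ^ 2 * q ^ 6 * q ^ 8 * q ^ 10 * q ^ 12 * q ^ 14 * q ^ 18 := by gcongr <;> exact Nat.sub_le _ _
      _ = q ^ (63 + 7) := by ring
  | e8 q =>
    exfalso
    refine good 120 8 _ _ q (by norm_num) (by norm_num) (by norm_num) hg (hle hg ?_)
    calc _ ≤ q ^ 2 * q ^ 8 * q ^ 12 * q ^ 14 * q ^ 18 * q ^ 20 * q ^ 24 * q ^ 30 := by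
          gcongr <;> exact Nat.sub_le _ _
      _ = q ^ (120 + 8) := by ring
  | te6 q =>
    exfalso
    have hq := hq1 hg
    refine good 36 6 _ _ q (by norm_num) (by norm_num) (by norm_num) hg (hle hg ?_)
    have h1 : (q ^ 2 - 1) * (q ^ 5 + 1) ≤ q ^ 7 := by
      have e1 : (q ^ 2 - 1) * (q ^ 5 + 1) + (q ^ 5 + 1) = q ^ 2 * (q ^ 5 + 1) := by
        rw [Nat.sub_mul, one_mul, Nat.sub_add_cancel]
        exact Nat.le_mul_of_pos_left _ (by positivity)
      have e2 : q ^ 2 ≤ q ^ 5 := Nat.pow_le_pow_right hq (by norm_num)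
      nlinarith
    have h2 : (q ^ 8 - 1) * (q ^ 9 + 1) ≤ q ^ 17 := by
      have := pair_le (k := 8) hq
      simpa using this
    calc (q ^ 2 - 1) * (q ^ 5 + 1) * (q ^ 6 - 1) * (q ^ 8 - 1) * (q ^ 9 + 1) * (q ^ 12 - 1)
        = ((q ^ 2 - 1) * (q ^ 5 + 1)) * (q ^ 6 - 1) * ((q ^ 8 - 1) * (q ^ 9 + 1)) * (q ^ 12 - 1) := by ring
      _ ≤ q ^ 7 * q ^ 6 * q ^ 17 * q ^ 12 := by
          gcongr <;> exact Nat.sub_le _ _
      _ = q ^ (36 + 6) := by ring
  | td4 q =>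
    exfalso
    have hq := hq1 hg
    refine good 12 4 _ _ q (by norm_num) (by norm_num) (by norm_num) hg (hle hg ?_)
    have h1 : (q ^ 2 - 1) * (q ^ 8 + q ^ 4 + 1) ≤ q ^ 10 := by
      obtain ⟨x, hx⟩ : ∃ x, q ^ 2 = x + 1 := ⟨q ^ 2 - 1, by have := Nat.one_le_pow 2 q hq; omega⟩
      have e4 : q ^ 4 = (x + 1) ^ 2 := by rw [← hx]; ring
      have e8 : q ^ 8 = (x + 1) ^ 4 := by rw [← hx]; ring
      have e10 : q ^ 10 = (x + 1) ^ 5 := by rw [← hx]; ring
      rw [e4, e8, e10, hx, Nat.add_sub_cancel]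
      have : (x + 1) ^ 5 = x * ((x + 1) ^ 4 + (x + 1) ^ 2 + 1) + ((x + 1) ^ 4 - x * ((x + 1) ^ 2 + 1)) := by
        have e : x * ((x + 1) ^ 2 + 1) ≤ (x + 1) ^ 4 := by nlinarith [Nat.zero_le x, Nat.zero_le (x ^ 2), Nat.zero_le (x ^ 3), Nat.zero_le (x ^ 4)]
        zify [e]
        ring
      omega
    calc (q ^ 2 - 1) * (q ^ 6 - 1) * (q ^ 8 + q ^ 4 + 1) = ((q ^ 2 - 1) * (q ^ 8 + q ^ 4 + 1)) * (q ^ 6 - 1) := by
          ring
      _ ≤ q ^ 10 * q ^ 6 := Nat.mul_le_mul h1 (Nat.sub_le _ _)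
      _ = q ^ (12 + 4) := by ring
  | sz q =>
    exfalso
    obtain ⟨⟨k, hk, hq⟩, h⟩ := hg
    have hq1' := hq1 h
    have h5 : (q - 1) * (q ^ 2 + 1) ≤ 1 * q ^ (2 + 1) := by
      have := pair_le (k := 1) hq1'
      simpa using this
    subst hq
    rcases lie_core hn Nat.prime_two (show 1 ≤ 2 * k + 1 by omega) (show 1 ≤ 2 by norm_num) h h5 hc hB with
      ⟨-, -, h7⟩ | ⟨h8, -⟩
    · obtain ⟨-, -, heq⟩ := h
      generalize hf : 2 * k + 1 = f at *
      have hq : 1 ≤ 2 ^ f := Nat.one_le_two_pow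
      refine zsig_false (n := n) (Or.inl rfl) (m := f * 4) (by omega) (by omega) hc fun z j hz hprim hj => ?_
      have h3 : z ^ j ∣ (2 ^ f) ^ 2 + 1 := by
        apply dvd_add_one hz (Nat.one_le_pow _ _ hq)
        · rw [← pow_mul]
          exact hprim (f * 2) (by omega) (by omega)
        · rw [← pow_mul, ← pow_mul, show f * (2 * 2) = f * 4 by ring]
          exact hj
      exact zpow_dvd hz (fun h1 => hz.one_lt.ne' (Nat.dvd_one.1 h1)) heq (h3.mul_left _)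
    · omega
  | ree q =>
    exfalso
    obtain ⟨⟨k, hk, hq⟩, h⟩ := hg
    have hq1' := hq1 h
    have h5 : (q - 1) * (q ^ 3 + 1) ≤ q ^ (3 + 1) := by
      have e1 : (q - 1) * (q ^ 3 + 1) + (q ^ 3 + 1) = q * (q ^ 3 + 1) := by
        rw [Nat.sub_mul, one_mul, Nat.sub_add_cancel]
        exact Nat.le_mul_of_pos_left _ (by omega)
      have e2 : q ≤ q ^ 3 := Nat.le_self_pow (by norm_num) q
      have e3 : q ^ (3 + 1) = q * q ^ 3 := by ring
      rw [e3]
      nlinarith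
    subst hq
    rcases lie_core hn Nat.prime_three (show 1 ≤ 2 * k + 1 by omega) (show 1 ≤ 3 by norm_num) h (hle h h5) hc hB with
      ⟨h8, -⟩ | ⟨-, h8, -⟩ <;> omega
  | tf4 q =>
    exfalso
    obtain ⟨⟨k, hk, hq⟩, h⟩ := hg
    have hq1' := hq1 h
    clear hq hk
    refine good 12 2 _ _ q (by norm_num) (by norm_num) (by norm_num) h (hle h ?_)
    have h1 : (q - 1) * (q ^ 3 + 1) ≤ q ^ 4 := by
      have e1 : (q - 1) * (q ^ 3 + 1) + (q ^ 3 + 1) = q * (q ^ 3 + 1) := by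
        rw [Nat.sub_mul, one_mul, Nat.sub_add_cancel]
        exact Nat.le_mul_of_pos_left _ (by omega)
      have e2 : q ≤ q ^ 3 := Nat.le_self_pow (by norm_num) q
      have e3 : q ^ 4 = q * q ^ 3 := by ring
      rw [e3]
      nlinarith
    have h2 : (q ^ 4 - 1) * (q ^ 6 + 1) ≤ q ^ 10 := by
      have e1 : (q ^ 4 - 1) * (q ^ 6 + 1) + (q ^ 6 + 1) = q ^ 4 * (q ^ 6 + 1) := by
        rw [Nat.sub_mul, one_mul, Nat.sub_add_cancel]
        exact Nat.le_mul_of_pos_left _ (by positivity)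
      have e2 : q ^ 4 ≤ q ^ 6 := Nat.pow_le_pow_right hq1' (by norm_num)
      have e3 : q ^ 10 = q ^ 4 * q ^ 6 := by ring
      rw [e3]
      nlinarith
    calc (q - 1) * (q ^ 3 + 1) * (q ^ 4 - 1) * (q ^ 6 + 1) = ((q - 1) * (q ^ 3 + 1)) * ((q ^ 4 - 1) * (q ^ 6 + 1)) := by
          ring
      _ ≤ q ^ 4 * q ^ 10 := Nat.mul_le_mul h1 h2
      _ = q ^ (12 + 2) := by ring
  | _ => exact absurd hg fun h => spor_false hn hB hp h

end Cfsg.Agent.H357.LieBound
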