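import Mathlib
import Cfsg.Agent.OrdDiv.Main

/-!
# Small degrees `13 ≤ n ≤ 40` (helper357)
-/

set_option autoImplicit false

namespace Cfsg.Agent.H357.Small

open Cfsg.Agent.OrdDiv

def isAlt : Grp → Bool
  | .alt _ => true
  | _ => false

/-- all groups whose order divides `N` and is divisible by the primes of `L` are alternating -/
def chk (l : List (ℕ × ℕ)) (N : ℕ) (L : List ℕ) : Bool :=
  valid l N && (cands l N).all fun g => isAlt g || !(L.all fun p => ordN g % p == 0)

theorem chk13 : chk [(2, 15), (3, 6), (5, 3), (7, 2), (11, 1), (13, 1)] 20922789888000 [11, 13] = true := by decide +kernel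

theorem chk17 : chk [(2, 16), (3, 8), (5, 3), (7, 2), (11, 1), (13, 1), (17, 1)] 6402373705728000 [11, 13, 17] = true := by decide +kernel

theorem chk19 : chk [(2, 19), (3, 9), (5, 4), (7, 3), (11, 2), (13, 1), (17, 1), (19, 1)] 1124000727777607680000 [13, 17, 19] = true := by decide +kernel

theorem chk23 : chk [(2, 25), (3, 13), (5, 6), (7, 4), (11, 2), (13, 2), (17, 1), (19, 1), (23, 1)] 304888344611713860501504000000 [17, 19, 23] = true := by decide +kernel

theorem chk29 : chk [(2, 26), (3, 14), (5, 7), (7, 4), (11, 2), (13, 2), (17, 1), (19, 1), (23, 1), (29, 1)] 265252859812191058636308480000000 [17, 19, 23, 29] = true := by decide +kernel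

theorem chk31 : chk [(2, 34), (3, 17), (5, 8), (7, 5), (11, 3), (13, 2), (17, 2), (19, 1), (23, 1), (29, 1), (31, 1)] 371993326789901217467999448150835200000000 [19, 23, 29, 31] = true := by decide +kernel

theorem chk37 : chk [(2, 38), (3, 18), (5, 9), (7, 5), (11, 3), (13, 3), (17, 2), (19, 2), (23, 1), (29, 1), (31, 1), (37, 1)] 815915283247897734345611269596115894272000000000 [23, 29, 31, 37] = true := by decide +kernel

end Cfsg.Agent.H357.Small
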