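import Mathlib
import Cfsg.Agent.H357.Final
import Cfsg.Agent.H357.Arith
import Cfsg.Agent.H357.Small

/-!
# The simple section is alternating (helper357)

`exists_alt` : `n ≥ 13`: the simple section of the reduction is an alternating group;
`main_large` : `n ≥ 13`: a group with the order and with element orders of `S_n` or `A_n` is `S_n` or `A_n`.
-/

set_option autoImplicit false

namespace Cfsg.Agent.H357.Main

open Cfsg Cfsg.Agent.OrdDiv Cfsg.Agent.H357.Reduce Cfsg.Agent.H405.Shape

universe u

theorem two_mul_card {M : Type u} [Group M] (hna : ¬ ∀ a b : M, a * b = b * a) {m : ℕ}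
    (e : M ≃* alternatingGroup (Fin m)) : 2 * Nat.card M = m.factorial := by
  have hm : 2 ≤ m := by
    by_contra hlt
    apply hna
    intro a b
    have : Subsingleton (alternatingGroup (Fin m)) := by
      have : Subsingleton (Fin m) := Fin.subsingleton_iff_le_one.2 (by omega)
      infer_instance
    apply e.injective
    exact Subsingleton.elim _ _
  rw [Nat.card_congr e.toEquiv]
  exact Cfsg.Agent.H363.AltPrimes.card_alternating hm

theorem of_chk (T : OrderTable.{u}) {M : Type u} [Group M] (hk : IsKnownSimple' M)
    (hna : ¬ ∀ a b : M, a * b = b * a) {l : List (ℕ × ℕ)} {N : ℕ} {L : List ℕ} (hchk : Small.chk l N L = true)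
    (hd : Nat.card M ∣ N) (hL : ∀ p ∈ L, p ∣ Nat.card M) : ∃ m, Nonempty (M ≃* alternatingGroup (Fin m)) := by
  unfold Small.chk at hchk
  rw [Bool.and_eq_true, List.all_eq_true] at hchk
  obtain ⟨g, hg, hr, ho⟩ := exists_good T hk hna hchk.1 hd
  have h1 := hchk.2 g hg
  rw [Bool.or_eq_true] at h1
  rcases h1 with h1 | h1
  · cases g with
    | alt m => exact ⟨m, hr⟩
    | _ => exact Bool.noConfusion h1
  · exfalso
    rw [Bool.not_eq_true', List.all_eq_false] at h1
    obtain ⟨p, hp, h2⟩ := h1
    apply h2
    rw [← ho]
    simpa using Nat.mod_eq_zero_of_dvd (hL p hp)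

theorem exists_alt (T : OrderTable.{u}) {G : Type u} [Group G] [Finite G] {n : ℕ} {N : Subgroup G} [N.Normal]
    {M : Subgroup (G ⧸ N)} (D : Data G n N M) (h : Hyp G n) (hn : 13 ≤ n) (hk : IsKnownSimple' M) :
    ∃ m, Nonempty (M ≃* alternatingGroup (Fin m)) := by
  have hdvd : Nat.card M ∣ n.factorial := D.card_dvd.trans h.dvd
  rcases Nat.lt_or_ge n 41 with h41 | h41
  · have key : ∀ {l : List (ℕ × ℕ)} {b : ℕ} {L : List ℕ}, Small.chk l b.factorial L = true → n ≤ b →
        (∀ p ∈ L, p.Prime ∧ b < 2 * p ∧ p ≤ n) → ∃ m, Nonempty (M ≃* alternatingGroup (Fin m)) := by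
      intro l b L hchk hnb hL
      refine of_chk T hk D.nonab hchk (hdvd.trans (Nat.factorial_dvd_factorial hnb)) fun p hp => ?_
      obtain ⟨h1, h2, h3⟩ := hL p hp
      exact D.primes p h1 (by omega) h3
    rcases Nat.lt_or_ge n 17 with h17 | h17
    · refine key (b := 16) (by rw [show Nat.factorial 16 = 20922789888000 by rfl]; exact Small.chk13) (by omega) ?_
      intro p hp
      simp only [List.mem_cons, List.not_mem_nil, or_false] at hp
      rcases hp with rfl | rfl <;> exact ⟨by norm_num, by norm_num, by omega⟩
    rcases Nat.lt_or_ge n 19 with h19 | h19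
    · refine key (b := 18) (by rw [show Nat.factorial 18 = 6402373705728000 by rfl]; exact Small.chk17) (by omega) ?_
      intro p hp
      simp only [List.mem_cons, List.not_mem_nil, or_false] at hp
      rcases hp with rfl | rfl | rfl <;> exact ⟨by norm_num, by norm_num, by omega⟩
    rcases Nat.lt_or_ge n 23 with h23 | h23
    · refine key (b := 22) (by rw [show Nat.factorial 22 = 1124000727777607680000 by rfl]; exact Small.chk19) (by omega) ?_
      intro p hp
      simp only [List.mem_cons, List.not_mem_nil, or_false] at hp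
      rcases hp with rfl | rfl | rfl <;> exact ⟨by norm_num, by norm_num, by omega⟩
    rcases Nat.lt_or_ge n 29 with h29 | h29
    · refine key (b := 28) (by rw [show Nat.factorial 28 = 304888344611713860501504000000 by rfl]; exact Small.chk23) (by omega) ?_
      intro p hp
      simp only [List.mem_cons, List.not_mem_nil, or_false] at hp
      rcases hp with rfl | rfl | rfl <;> exact ⟨by norm_num, by norm_num, by omega⟩
    rcases Nat.lt_or_ge n 31 with h31 | h31
    · refine key (b := 30) (by rw [show Nat.factorial 30 = 265252859812191058636308480000000 by rfl]; exact Small.chk29) (by omega) ?_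
      intro p hp
      simp only [List.mem_cons, List.not_mem_nil, or_false] at hp
      rcases hp with rfl | rfl | rfl | rfl <;> exact ⟨by norm_num, by norm_num, by omega⟩
    rcases Nat.lt_or_ge n 37 with h37 | h37
    · refine key (b := 36) (by rw [show Nat.factorial 36 = 371993326789901217467999448150835200000000 by rfl]; exact Small.chk31) (by omega) ?_
      intro p hp
      simp only [List.mem_cons, List.not_mem_nil, or_false] at hp
      rcases hp with rfl | rfl | rfl | rfl <;> exact ⟨by norm_num, by norm_num, by omega⟩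
    · refine key (b := 40) (by rw [show Nat.factorial 40 = 815915283247897734345611269596115894272000000000 by rfl]; exact Small.chk37) (by omega) ?_
      intro p hp
      simp only [List.mem_cons, List.not_mem_nil, or_false] at hp
      rcases hp with rfl | rfl | rfl | rfl <;> exact ⟨by norm_num, by norm_num, by omega⟩
  · obtain ⟨g, hr, ho⟩ := exists_shape T hk D.nonab
    obtain ⟨m, rfl⟩ := LieBound.arith h41 hdvd (D.B_dvd h h41) D.primes ho
    exact ⟨m, hr⟩

/-- **Large degrees** -/
theorem main_large (T : OrderTable.{u}) {G : Type u} [Group G] [Finite G] {n : ℕ} (hn : 13 ≤ n) (hs : Same G n)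
    (hcl : ∀ (S : Type u) [Group S] [Finite S] [IsSimpleGroup S], IsKnownSimple' S) :
    Nonempty (G ≃* Equiv.Perm (Fin n)) ∨ Nonempty (G ≃* alternatingGroup (Fin n)) := by
  obtain ⟨N, hN, M, D⟩ := exists_data (by omega) hs.hyp
  have := D.simple
  obtain ⟨m, ⟨e⟩⟩ := exists_alt T D hs.hyp hn (hcl M)
  exact D.final hs hn e (two_mul_card D.nonab e)

end Cfsg.Agent.H357.Main
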