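import Mathlib
import Cfsg.Agent.H357.Main
import Cfsg.Agent.H357.SmallFin
import Cfsg.Agent.H357.Tiny

/-!
# All degrees (helper357)

`main_all` : a group with the order of `S_n` or `A_n`, whose element orders are element orders of `S_n`, is `S_n` or
`A_n` if (`n = 6`) it has an element of order six or (`n = 8`) it has an element of order 15.
-/

set_option autoImplicit false

namespace Cfsg.Agent.H357.Main

open Cfsg Cfsg.Agent.OrdDiv Cfsg.Agent.H357.Reduce

universe u

theorem main_small (T : OrderTable.{u}) {G : Type u} [Group G] [Finite G] {n : ℕ} (hn : 5 ≤ n) (hn2 : n ≤ 12)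
    (hs : Same G n) (h6 : n = 6 → Nat.card G = 720 → ∃ g : G, orderOf g = 6)
    (h8 : n = 8 → ∃ g : G, orderOf g = 15)
    (hcl : ∀ (S : Type u) [Group S] [Finite S] [IsSimpleGroup S], IsKnownSimple' S) :
    Nonempty (G ≃* Equiv.Perm (Fin n)) ∨ Nonempty (G ≃* alternatingGroup (Fin n)) := by
  obtain ⟨N, hN, M, D, h⟩ := exists_small T hs.hyp hn hn2 hcl
  rcases h with ⟨⟨e⟩⟩ | ⟨rfl, ⟨e⟩⟩ | ⟨rfl, hM, hm⟩ | ⟨rfl, hM, hm⟩
  · have hm := two_mul_card D.nonab e
    refine D.final_eq hs e hm ?_ ?_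
    · have key : ∀ (a : ℕ) (P : Finset ℕ), ((∀ p ∈ P, p.Prime ∧ p ≠ 2) ∧ ∑ p ∈ P, p ≤ a ∧ a < 2 + ∑ p ∈ P, p) →
          ∃ P : Finset ℕ, (∀ p ∈ P, p.Prime ∧ p ≠ 2) ∧ ∑ p ∈ P, p ≤ a ∧ a < 2 + ∑ p ∈ P, p := fun a P h => ⟨P, h⟩
      interval_cases n
      · exact key 5 {5} ⟨by simp; norm_num, by simp, by simp⟩
      · exact key 6 {5} ⟨by simp; norm_num, by simp, by simp⟩
      · exact key 7 {7} ⟨by simp; norm_num, by simp, by simp⟩
      · exact key 8 {7} ⟨by simp; norm_num, by simp, by simp⟩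
      · exact key 9 {3, 5} ⟨by simp; norm_num, by simp, by simp⟩
      · exact key 10 {3, 7} ⟨by simp; norm_num, by simp, by simp⟩
      · exact key 11 {11} ⟨by simp; norm_num, by simp, by simp⟩
      · exact key 12 {11} ⟨by simp; norm_num, by simp, by simp⟩
    · intro hc
      by_cases hn6 : n = 6
      · subst hn6
        rw [show Nat.factorial 6 = 720 by rfl] at hc hm
        obtain ⟨g, hg⟩ := h6 rfl hc
        exact D.hom_six e hc (by omega) g hg
      · exact D.exists_hom' (by omega) hn6 e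
  · exact (D.false_seven hs e).elim
  · obtain ⟨g, hg⟩ := h8 rfl
    exact (D.false_psl hs hM hm hg).elim
  · exact (D.false_janko hs hM hm).elim

/-- **All degrees** -/
theorem main_all (T : OrderTable.{u}) {G : Type u} [Group G] [Finite G] {n : ℕ}
    (hs : Same G n) (h6 : n = 6 → Nat.card G = 720 → ∃ g : G, orderOf g = 6)
    (h8 : n = 8 → ∃ g : G, orderOf g = 15)
    (hcl : ∀ (S : Type u) [Group S] [Finite S] [IsSimpleGroup S], IsKnownSimple' S) :
    Nonempty (G ≃* Equiv.Perm (Fin n)) ∨ Nonempty (G ≃* alternatingGroup (Fin n)) := by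
  rcases Nat.lt_or_ge 4 n with h4 | h4
  · rcases Nat.lt_or_ge 12 n with h12 | h12
    · exact main_large T h12 hs hcl
    · exact main_small T h4 h12 hs h6 h8 hcl
  · exact main_tiny h4 hs

end Cfsg.Agent.H357.Main
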