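import Mathlib
import Cfsg.Agent.H357.AllDeg

/-!
# Recognition of `S_n` and `A_n` by order and element orders (helper357)
-/

set_option autoImplicit false

namespace Cfsg.Agent.H357.Recog

open Cfsg Cfsg.Agent.OrdDiv Cfsg.Agent.H357.Reduce Cfsg.Agent.H357.Main

universe u

theorem card_perm (n : ℕ) : Nat.card (Equiv.Perm (Fin n)) = n.factorial := by
  rw [Nat.card_eq_fintype_card, Fintype.card_perm, Fintype.card_fin]

theorem card_alt {n : ℕ} (hn : 2 ≤ n) : 2 * Nat.card (alternatingGroup (Fin n)) = n.factorial :=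
  Cfsg.Agent.H363.AltPrimes.card_alternating hn

theorem card_alt' {n : ℕ} (hn : n ≤ 1) : Nat.card (alternatingGroup (Fin n)) = 1 := by
  rw [Nat.card_eq_one_iff_unique]
  have : Subsingleton (Fin n) := Fin.subsingleton_iff_le_one.2 hn
  exact ⟨inferInstance, ⟨1⟩⟩

theorem fact_one {n : ℕ} (hn : n ≤ 1) : n.factorial = 1 := by
  interval_cases n <;> rfl

theorem exists_six : ∃ g : Equiv.Perm (Fin 6), orderOf g = 6 := by
  refine ⟨Equiv.swap 0 1 * Equiv.swap 1 2 * Equiv.swap 3 4, ?_⟩
  have h6 : (Equiv.swap 0 1 * Equiv.swap 1 2 * Equiv.swap 3 4 : Equiv.Perm (Fin 6)) ^ 6 = 1 := by decide +kernel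
  have h3 : (Equiv.swap 0 1 * Equiv.swap 1 2 * Equiv.swap 3 4 : Equiv.Perm (Fin 6)) ^ 3 ≠ 1 := by decide +kernel
  have h2 : (Equiv.swap 0 1 * Equiv.swap 1 2 * Equiv.swap 3 4 : Equiv.Perm (Fin 6)) ^ 2 ≠ 1 := by decide +kernel
  have hd := orderOf_dvd_of_pow_eq_one h6
  have h3' := fun h => h3 (orderOf_dvd_iff_pow_eq_one.mp h)
  have h2' := fun h => h2 (orderOf_dvd_iff_pow_eq_one.mp h)
  generalize orderOf (Equiv.swap 0 1 * Equiv.swap 1 2 * Equiv.swap 3 4 : Equiv.Perm (Fin 6)) = k at *
  have hle := Nat.le_of_dvd (by norm_num) hd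
  interval_cases k
  · revert hd; decide
  · exact absurd (by decide) h3'
  · exact absurd (by decide) h2'
  · exact absurd (by decide) h3'
  · revert hd; decide
  · revert hd; decide
  · rfl

/-- `(0 1 2)(3 4 5 6 7)` -/
def p15 : Equiv.Perm (Fin 8) :=
  Equiv.swap 0 1 * Equiv.swap 1 2 * (Equiv.swap 3 4 * Equiv.swap 4 5 * Equiv.swap 5 6 * Equiv.swap 6 7)

theorem exists_fifteen : ∃ g : alternatingGroup (Fin 8), orderOf g = 15 := by
  have hm : p15 ∈ alternatingGroup (Fin 8) := by
    rw [Equiv.Perm.mem_alternatingGroup]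
    decide +kernel
  refine ⟨⟨p15, hm⟩, ?_⟩
  rw [← Subgroup.orderOf_coe]
  change orderOf p15 = 15
  exact Cfsg.Agent.H379.PermOrders.ord15 (by decide +kernel) (by decide +kernel) (by decide +kernel)

/-- **Symmetric groups** -/
theorem sym (T : OrderTable.{u}) (hcl : ∀ (S : Type u) [Group S] [Finite S] [IsSimpleGroup S], IsKnownSimple' S)
    {G : Type u} [Group G] [Finite G] {n : ℕ}
    (h1 : Set.range (orderOf : G → ℕ) = Set.range (orderOf : Equiv.Perm (Fin n) → ℕ))
    (h2 : Nat.card G = Nat.card (Equiv.Perm (Fin n))) : Nonempty (G ≃* Equiv.Perm (Fin n)) := by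
  rw [card_perm] at h2
  have hs : Same G n := ⟨Or.inl h2, fun g => by rw [← h1]; exact ⟨g, rfl⟩⟩
  rcases main_all T hs (fun hn _ => by
      subst hn
      obtain ⟨g, hg⟩ := exists_six
      have h3 : (6 : ℕ) ∈ Set.range (orderOf : G → ℕ) := by
        rw [h1]
        exact ⟨g, hg⟩
      exact h3) (fun hn => by
      subst hn
      obtain ⟨g, hg⟩ := exists_fifteen
      have h3 : (15 : ℕ) ∈ Set.range (orderOf : G → ℕ) := by
        rw [h1]
        exact ⟨g, by rw [Subgroup.orderOf_coe]; exact hg⟩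
      exact h3) hcl with h | ⟨⟨e⟩⟩
  · exact h
  · rcases Nat.lt_or_ge 1 n with hn | hn
    · exfalso
      have h3 := card_alt hn
      rw [← Nat.card_congr e.toEquiv, h2] at h3
      have := n.factorial_pos
      omega
    · exact equiv_of_card_one (by rw [h2]; exact fact_one hn) (by rw [card_perm]; exact fact_one hn)

/-- **Alternating groups** -/
theorem alt (T : OrderTable.{u}) (hcl : ∀ (S : Type u) [Group S] [Finite S] [IsSimpleGroup S], IsKnownSimple' S)
    {G : Type u} [Group G] [Finite G] {n : ℕ}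
    (h1 : Set.range (orderOf : G → ℕ) = Set.range (orderOf : alternatingGroup (Fin n) → ℕ))
    (h2 : Nat.card G = Nat.card (alternatingGroup (Fin n))) : Nonempty (G ≃* alternatingGroup (Fin n)) := by
  have hsub : Set.range (orderOf : alternatingGroup (Fin n) → ℕ) ⊆ Set.range (orderOf : Equiv.Perm (Fin n) → ℕ) := by
    rintro _ ⟨g, rfl⟩
    exact ⟨g, Subgroup.orderOf_coe g⟩
  rcases Nat.lt_or_ge 1 n with hn | hn
  · have h3 := card_alt hn
    rw [← h2] at h3
    have hs : Same G n := ⟨Or.inr h3, fun g => hsub (by rw [← h1]; exact ⟨g, rfl⟩)⟩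
    rcases main_all T hs (fun hn hc => by
        subst hn
        rw [hc, show Nat.factorial 6 = 720 by rfl] at h3
        omega) (fun hn => by
        subst hn
        obtain ⟨g, hg⟩ := exists_fifteen
        have h3 : (15 : ℕ) ∈ Set.range (orderOf : G → ℕ) := by
          rw [h1]
          exact ⟨g, hg⟩
        exact h3) hcl with ⟨⟨e⟩⟩ | h
    · exfalso
      rw [Nat.card_congr e.toEquiv, card_perm] at h3
      have := n.factorial_pos
      omega
    · exact h
  · exact equiv_of_card_one (by rw [h2]; exact card_alt' hn) (card_alt' hn)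

end Cfsg.Agent.H357.Recog
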